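-- helper20: the Diophantine core for the involution column of a simple group of order 7920
-- (values, given that the centralizer has order 48).
import Mathlib
import Cfsg.Agent.Helper20.M11InvCore

set_option autoImplicit false

namespace Cfsg.Agent.Helper20.U11

open Cfsg.Agent.Helper20.M11

set_option maxRecDepth 100000 in
theorem inv_core2 : ∀ A ∈ rng 6, ∀ c ∈ rng 4, (16 * A ^ 2 + 720 - 45 * c ^ 2) % 72 = 0 →
    ∀ b1 ∈ rng 6, ∀ b2 ∈ rng 6,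
    720 + 16 * A ^ 2 - 72 * (b1 ^ 2 + b2 ^ 2 + (1 + A - c - b1 - b2) ^ 2) - 45 * c ^ 2 = 0 →
    ∀ e ∈ rng 6, ∀ g ∈ rng 6,
      1 + 45 * A + 10 * (1 + A - c) + 32 * c + 11 * e + 44 * (1 + e + 2 * c) + 55 * g = 0 →
        1 + A ^ 2 + b1 ^ 2 + b2 ^ 2 + (1 + A - c - b1 - b2) ^ 2 + 2 * c ^ 2 + e ^ 2
          + (1 + e + 2 * c) ^ 2 + g ^ 2 = 48 → A = -3 ∧ c = 0 ∧ e = 3 ∧ g = -1 := by
  decide +kernel

theorem inv_arith2 {A b1 b2 b3 c e f g : ℤ}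
    (h1 : 1 + A - b1 - b2 - b3 - c = 0) (h2 : 1 + e + 2 * c - f = 0)
    (h3 : 1 + 45 * A + 10 * (b1 + b2 + b3) + 32 * c + 11 * e + 44 * f + 55 * g = 0)
    (h4 : 1 + A ^ 2 + b1 ^ 2 + b2 ^ 2 + b3 ^ 2 + 2 * c ^ 2 + e ^ 2 + f ^ 2 + g ^ 2 = 48)
    (h8 : 720 + 16 * A ^ 2 - 72 * (b1 ^ 2 + b2 ^ 2 + b3 ^ 2) - 45 * c ^ 2 = 0) :
    A = -3 ∧ c = 0 ∧ e = 3 ∧ g = -1 := by
  have hb3 : b3 = 1 + A - c - b1 - b2 := by linarith
  have hf : f = 1 + e + 2 * c := by linarith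
  subst hb3 hf
  have q1 := sq_nonneg A
  have q2 := sq_nonneg b1
  have q3 := sq_nonneg b2
  have q4 := sq_nonneg (1 + A - c - b1 - b2)
  have q5 := sq_nonneg c
  have q6 := sq_nonneg e
  have q7 := sq_nonneg (1 + e + 2 * c)
  have q8 := sq_nonneg g
  have hA : A ^ 2 ≤ 47 := by linarith
  have hc : 2 * c ^ 2 ≤ 47 := by linarith
  have hb1 : b1 ^ 2 ≤ 47 := by linarith
  have hb2 : b2 ^ 2 ≤ 47 := by linarith
  have he : e ^ 2 ≤ 47 := by linarith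
  have hg : g ^ 2 ≤ 47 := by linarith
  have bd : ∀ z : ℤ, z ^ 2 ≤ 47 → -6 ≤ z ∧ z ≤ 6 := by
    intro z hz
    constructor <;> nlinarith
  have bc : -4 ≤ c ∧ c ≤ 4 := by constructor <;> nlinarith
  refine inv_core2 A (mem_rng (bd A hA).1 (bd A hA).2) c (mem_rng bc.1 bc.2) ?_
    b1 (mem_rng (bd b1 hb1).1 (bd b1 hb1).2) b2 (mem_rng (bd b2 hb2).1 (bd b2 hb2).2) h8
    e (mem_rng (bd e he).1 (bd e he).2) g (mem_rng (bd g hg).1 (bd g hg).2) ?_ h4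
  · have : 16 * A ^ 2 + 720 - 45 * c ^ 2
        = 72 * (b1 ^ 2 + b2 ^ 2 + (1 + A - c - b1 - b2) ^ 2) := by linarith
    rw [this]
    exact Int.mul_emod_right _ _
  · linarith

end Cfsg.Agent.Helper20.U11
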