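-- helper20: the involution column of the character table of a simple group of order 7920.
import Mathlib
import Cfsg.Agent.Helper20.M11Inv
import Cfsg.Agent.Helper20.U11.InvCore

set_option autoImplicit false
set_option linter.style.haveILetI false

namespace Cfsg.Agent.Helper20.U11

open Cfsg Subgroup Cfsg.Agent.Helper17 Cfsg.Agent.Helper17.Exc Cfsg.Agent.Helper17.G4320
open Cfsg.Agent.Helper20.M11
open scoped ComplexConjugate

universe u

set_option maxHeartbeats 3200000 in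
/-- The involution column of the character table. -/
theorem involution_column {G : Type u} [Group G] [Fintype G]
    [Fintype (IrrCharacter G)] [IsSimpleGroup G] (h : Nat.card G = 7920) (T : Tab G) {t : G}
    (ht : orderOf t = 2) : ∃ b1 b2 b3 : ℤ, (T.ψa : G → ℂ) t = b1 ∧ (T.ψb : G → ℂ) t = b2 ∧
      (T.ψc : G → ℂ) t = b3 ∧ b1 + b2 + b3 = -2 ∧ b1 ^ 2 + b2 ^ 2 + b3 ^ 2 = 12 ∧
      (T.ψ45 : G → ℂ) t = -3 ∧ (T.Λ1 : G → ℂ) t = 0 ∧
      (T.Λ2 : G → ℂ) t = 0 ∧ (T.χ11 : G → ℂ) t = 3 ∧ (T.χ44 : G → ℂ) t = 4 ∧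
      (T.χ55 : G → ℂ) t = -1 := by
  classical
  have htt : t * t = 1 := by rw [← pow_two, ← ht]; exact pow_orderOf_eq_one t
  obtain ⟨A, hA⟩ := char_involution_int (Helper74.irr_isCharacter T.ψ45) htt
  obtain ⟨b1, hb1⟩ := char_involution_int (Helper74.irr_isCharacter T.ψa) htt
  obtain ⟨b2, hb2⟩ := char_involution_int (Helper74.irr_isCharacter T.ψb) htt
  obtain ⟨b3, hb3⟩ := char_involution_int (Helper74.irr_isCharacter T.ψc) htt
  obtain ⟨c, hc⟩ := char_involution_int (Helper74.irr_isCharacter T.Λ1) htt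
  obtain ⟨e, he⟩ := char_involution_int (Helper74.irr_isCharacter T.χ11) htt
  obtain ⟨f, hf⟩ := char_involution_int (Helper74.irr_isCharacter T.χ44) htt
  obtain ⟨g, hg⟩ := char_involution_int (Helper74.irr_isCharacter T.χ55) htt
  have hc' : (T.Λ2 : G → ℂ) t = c := by
    rw [← hc]
    symm
    apply T.hoff t
    intro k hmem
    have h1 := orderOf_dvd_natCard (⟨_, hmem⟩ : Subgroup.zpowers T.x)
    rw [Subgroup.orderOf_mk, Nat.card_zpowers, T.hx, orderOf_conj', ht] at h1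
    norm_num at h1
  have hprinc : ∀ y : G, ((Helper79.principalIrr G : IrrCharacter G) : G → ℂ) y = 1 :=
    fun _ => rfl
  have hncx : ¬ IsConj T.x t := by
    intro hcj
    obtain ⟨k, hk⟩ := isConj_iff.mp hcj
    have := orderOf_conj' k T.x
    rw [hk, ht, T.hx] at this
    norm_num at this
  have hncv : ¬ IsConj T.v t := by
    intro hcj
    obtain ⟨k, hk⟩ := isConj_iff.mp hcj
    have := orderOf_conj' k T.v
    rw [hk, ht, T.hv] at this
    norm_num at this
  have hnc1 : ¬ IsConj (1 : G) t := by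
    intro hcj
    obtain ⟨k, hk⟩ := isConj_iff.mp hcj
    have := orderOf_conj' k (1 : G)
    rw [hk, ht, orderOf_one] at this
    norm_num at this
  have cI : ∀ z : ℤ, conj ((z : ℂ)) = z := fun z => map_intCast (starRingEnd ℂ) z
  have hone : ∀ χ : IrrCharacter G, (χ : G → ℂ) 1 = (charDegree (χ : G → ℂ) : ℂ) :=
    fun χ => Helper78.irrChar_one_eq_charDegree χ.2
  -- orthogonality with x
  have E1 : (1 : ℂ) + A - b1 - b2 - b3 - c = 0 := by
    have hso := Helper74.second_orthogonality (G := G) T.x t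
    rw [if_neg hncx, T.hsum] at hso
    rw [hprinc, hprinc, hA, hb1, hb2, hb3, hc, hc', he, hf, hg, T.hx45, T.hxa, T.hxb, T.hxc,
      T.hx11, T.hx44, T.hx55] at hso
    simp only [cI, map_one] at hso
    linear_combination hso - (c : ℂ) * T.hxΛ
  -- orthogonality with v
  have E2 : (1 : ℂ) + e + 2 * c - f = 0 := by
    have hso := Helper74.second_orthogonality (G := G) T.v t
    rw [if_neg hncv, T.hsum] at hso
    rw [hprinc, hprinc, hA, hb1, hb2, hb3, hc, hc', he, hf, hg, T.hv45, T.hva, T.hvb, T.hvc,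
      T.hvΛ1, T.hvΛ2, T.hv11, T.hv44, T.hv55] at hso
    simp only [cI, map_one] at hso
    linear_combination hso
  -- orthogonality with 1
  have E3 : (1 : ℂ) + 45 * A + 10 * (b1 + b2 + b3) + 32 * c + 11 * e + 44 * f + 55 * g = 0 := by
    have hso := Helper74.second_orthogonality (G := G) (1 : G) t
    rw [if_neg hnc1, T.hsum] at hso
    rw [hprinc, hprinc, hA, hb1, hb2, hb3, hc, hc', he, hf, hg] at hso
    simp only [hone, T.hd45, T.hda, T.hdb, T.hdc, T.hdΛ1, T.hdΛ2, T.hd11, T.hd44, T.hd55, cI,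
      map_one] at hso
    push_cast at hso
    linear_combination hso
  -- the centralizer order
  obtain ⟨N, hNdef⟩ : ∃ N : ℕ, N = Nat.card (centralizer ({t} : Set G)) := ⟨_, rfl⟩
  have E4 : (1 : ℂ) + A ^ 2 + b1 ^ 2 + b2 ^ 2 + b3 ^ 2 + 2 * c ^ 2 + e ^ 2 + f ^ 2 + g ^ 2
      = (N : ℂ) := by
    have hso := Helper74.second_orthogonality (G := G) t t
    rw [if_pos (IsConj.refl t), T.hsum, ← hNdef] at hso
    rw [hprinc, hA, hb1, hb2, hb3, hc, hc', he, hf, hg] at hso
    simp only [cI, map_one] at hso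
    linear_combination hso
  -- class multiplication
  have hNp : Nat.card {p : G × G // IsConj t p.1 ∧ IsConj t p.2 ∧ p.1 * p.2 = T.x} = 0 := by
    rw [Nat.card_eq_zero]
    left
    refine ⟨fun ⟨p, hp1, hp2, hp3⟩ => ?_⟩
    obtain ⟨k1, hk1⟩ := isConj_iff.mp hp1
    obtain ⟨k2, hk2⟩ := isConj_iff.mp hp2
    have o1 : orderOf p.1 = 2 := by rw [← hk1, orderOf_conj', ht]
    have o2 : orderOf p.2 = 2 := by rw [← hk2, orderOf_conj', ht]
    exact no_invol_product h T.hx o1 o2 hp3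
  have hconjsum : conj ((T.Λ1 : G → ℂ) T.x) + conj ((T.Λ2 : G → ℂ) T.x) = -1 := by
    rw [← map_add, T.hxΛ]
    simp
  have E8 : (720 : ℂ) + 16 * A ^ 2 - 72 * (b1 ^ 2 + b2 ^ 2 + b3 ^ 2) - 45 * c ^ 2 = 0 := by
    have hm := Cfsg.Agent.S0840.result t t T.x
    rw [hNp, finsum_eq_sum_of_fintype, T.hsum, h] at hm
    have hcl : (Nat.card {y : G // IsConj t y} : ℂ) ≠ 0 := by
      have : Nonempty {y : G // IsConj t y} := ⟨⟨t, IsConj.refl t⟩⟩
      have hpos : 0 < Nat.card {y : G // IsConj t y} := Nat.card_pos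
      exact_mod_cast hpos.ne'
    have hS := hm.symm
    rw [Nat.cast_zero, mul_eq_zero] at hS
    rcases hS with hS | hS
    · exfalso
      rw [div_eq_zero_iff, mul_self_eq_zero] at hS
      rcases hS with hS | hS
      · exact hcl hS
      · norm_num at hS
    · rw [hprinc, hprinc, hprinc, hA, hb1, hb2, hb3, hc, hc', he, hf, hg, T.hx45, T.hxa, T.hxb,
        T.hxc, T.hx11, T.hx44, T.hx55] at hS
      simp only [hone, T.hd45, T.hda, T.hdb, T.hdc, T.hdΛ1, T.hdΛ2, T.hd11, T.hd44, T.hd55,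
        map_one, map_neg, map_zero] at hS
      push_cast at hS
      linear_combination 720 * hS - 45 * (c : ℂ) ^ 2 * hconjsum
  -- integer versions
  have I1 : 1 + A - b1 - b2 - b3 - c = 0 := by exact_mod_cast E1
  have I2 : 1 + e + 2 * c - f = 0 := by exact_mod_cast E2
  have I3 : 1 + 45 * A + 10 * (b1 + b2 + b3) + 32 * c + 11 * e + 44 * f + 55 * g = 0 := by
    exact_mod_cast E3
  have I4 : 1 + A ^ 2 + b1 ^ 2 + b2 ^ 2 + b3 ^ 2 + 2 * c ^ 2 + e ^ 2 + f ^ 2 + g ^ 2 = (N : ℤ) := by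
    exact_mod_cast E4
  have I8 : 720 + 16 * A ^ 2 - 72 * (b1 ^ 2 + b2 ^ 2 + b3 ^ 2) - 45 * c ^ 2 = 0 := by
    exact_mod_cast E8
  have hN48 : N = 48 := by rw [hNdef]; exact card_centralizer_involution h T ht
  rw [hN48] at I4
  obtain ⟨r1, r2, r3, r4⟩ := inv_arith2 I1 I2 I3 (by exact_mod_cast I4) I8
  have hI4 : 1 + A ^ 2 + b1 ^ 2 + b2 ^ 2 + b3 ^ 2 + 2 * c ^ 2 + e ^ 2 + f ^ 2 + g ^ 2 = 48 := by
    exact_mod_cast I4
  subst r1 r2 r3 r4
  have hf4 : f = 4 := by linarith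
  subst hf4
  refine ⟨b1, b2, b3, hb1, hb2, hb3, by linarith, by linarith, ?_, ?_, ?_, ?_, ?_, ?_⟩
  · rw [hA]; norm_num
  · rw [hc]; norm_num
  · rw [hc']; norm_num
  · rw [he]; norm_num
  · rw [hf]; norm_num
  · rw [hg]; norm_num

end Cfsg.Agent.Helper20.U11
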