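-- helper20: local facts on a simple group of order 7920 (elements of order 11, 5, 2).
import Mathlib
import Cfsg.Agent.Helper20.U11.InvCol

set_option autoImplicit false
set_option linter.style.haveILetI false

namespace Cfsg.Agent.Helper20.U11

open Cfsg Subgroup Cfsg.Agent.Helper17 Cfsg.Agent.Helper17.Exc Cfsg.Agent.Helper17.G4320
open Cfsg.Agent.Helper20.M11
open scoped ComplexConjugate

universe u

variable {G : Type u} [Group G] [Finite G] [IsSimpleGroup G]

/-- The normalizer of a subgroup of order 11 has order 55. -/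
theorem card_normalizer11 (h : Nat.card G = 7920) {y : G} (hy : orderOf y = 11) :
    Nat.card (normalizer ((zpowers y : Subgroup G) : Set G)) = 55 := by
  haveI : Fact (Nat.Prime 11) := ⟨by norm_num⟩
  obtain ⟨P, hPz⟩ := exists_sylow_eq_zpowers (fun P' => card_sylow11_sub h P') y hy
  have := card_normalizer_mul_card_sylow P
  rw [card_sylow11 h, h, hPz] at this
  omega

/-- Elements of order 11 are self-centralizing. -/
theorem mem_zpowers_of_commute11 (h : Nat.card G = 7920) {y g : G} (hy : orderOf y = 11)
    (hg : Commute g y) : g ∈ zpowers y := by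
  haveI : Fact (Nat.Prime 11) := ⟨by norm_num⟩
  obtain ⟨P, hPz⟩ := exists_sylow_eq_zpowers (fun P' => card_sylow11_sub h P') y hy
  have hP := card_sylow11_sub h P
  have hN : Nat.card (normalizer ((P : Subgroup G) : Set G)) = 11 * 5 := by
    rw [hPz]; exact card_normalizer11 h hy
  have hCself := self_centralizing_setup P hP (by rw [h]; norm_num) hN (by
    intro d hd1 _ hd5
    rcases (Nat.dvd_prime (by norm_num : Nat.Prime 5)).mp hd5 with h' | h'
    · omega
    · exact h')
  have hyP : y ∈ (P : Subgroup G) := by rw [hPz]; exact Subgroup.mem_zpowers y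
  have hy1 : y ≠ 1 := by
    intro h1
    rw [h1, orderOf_one] at hy
    norm_num at hy
  have hgC : g ∈ centralizer ({y} : Set G) := by
    rw [Subgroup.mem_centralizer_singleton_iff]
    exact hg.eq
  have := hCself y hyP hy1 hgC
  rwa [hPz] at this

/-- Elements of order 5 have centralizer of order 5. -/
theorem card_centralizer5 (h : Nat.card G = 7920) {y : G} (hy : orderOf y = 5) :
    Nat.card (centralizer ({y} : Set G)) = 5 := by
  classical
  let _ := Fintype.ofFinite G
  let _ := Helper74.irrFintype G
  obtain ⟨T⟩ := exists_tab h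
  exact T.hC5 y hy

/-- Elements of order 5 are self-centralizing. -/
theorem mem_zpowers_of_commute5 (h : Nat.card G = 7920) {y g : G} (hy : orderOf y = 5)
    (hg : Commute g y) : g ∈ zpowers y := by
  have hle : zpowers y ≤ centralizer ({y} : Set G) := by
    rw [Subgroup.zpowers_le, Subgroup.mem_centralizer_singleton_iff]
  have heq : zpowers y = centralizer ({y} : Set G) := by
    apply Subgroup.eq_of_le_of_card_ge hle
    rw [card_centralizer5 h hy, Nat.card_zpowers, hy]
  rw [heq, Subgroup.mem_centralizer_singleton_iff]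
  exact hg.eq

/-- There are 396 Sylow 5-subgroups. -/
theorem card_sylow5 (h : Nat.card G = 7920) [Fact (Nat.Prime 5)] :
    Nat.card (Sylow 5 G) = 396 := by
  obtain ⟨P⟩ : Nonempty (Sylow 5 G) := inferInstance
  have hP := card_sylow5_sub h P
  obtain ⟨y', hy'⟩ := exists_prime_orderOf_dvd_card' (G := ↥(P : Subgroup G)) 5 (by rw [hP])
  have hy5 : orderOf (y' : G) = 5 := by rw [Subgroup.orderOf_coe, hy']
  have hPz : (P : Subgroup G) = zpowers (y' : G) := by
    symm
    apply Subgroup.eq_of_le_of_card_ge (zpowers_le.mpr y'.2)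
    rw [Nat.card_zpowers, hy5, hP]
  have hCP : Nat.card (centralizer ((P : Subgroup G) : Set G)) = 5 := by
    rw [← centralizer_singleton_eq_of_zpowers hPz, card_centralizer5 h hy5]
  have hN := card_normalizer_mul_card_sylow P
  rw [h] at hN
  obtain ⟨h1, -⟩ := relIndex_dvd_of_card_sylow_prime P hP
  have h3 := card_centralizer_mul_relIndex (P : Subgroup G)
  rw [hCP] at h3
  generalize (centralizer ((P : Subgroup G) : Set G)).relIndex
    (normalizer ((P : Subgroup G) : Set G)) = r at h1 h3
  generalize Nat.card (normalizer ((P : Subgroup G) : Set G)) = nn at hN h3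
  have hr : r ≤ 4 := Nat.le_of_dvd (by norm_num) (by simpa using h1)
  rcases card_sylow5_mem h with h' | h' | h' | h' <;> rw [h'] at hN ⊢ <;> omega

/-- All elements of order 5 are conjugate. -/
theorem isConj_of_order5 (h : Nat.card G = 7920) {y z : G} (hy : orderOf y = 5)
    (hz : orderOf z = 5) : IsConj y z := by
  haveI : Fact (Nat.Prime 5) := ⟨by norm_num⟩
  exact conj_of_order_five7920 h (card_sylow5 h) hz (card_centralizer5 h hz) y hy

/-- Involution centralizers have order 48. -/
theorem card_centralizer2 (h : Nat.card G = 7920) {t : G} (ht : orderOf t = 2) :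
    Nat.card (centralizer ({t} : Set G)) = 48 := by
  classical
  let _ := Fintype.ofFinite G
  let _ := Helper74.irrFintype G
  obtain ⟨T⟩ := exists_tab h
  exact card_centralizer_involution h T ht

/-- All involutions are conjugate. -/
theorem isConj_of_order2 (h : Nat.card G = 7920) {s t : G} (hs : orderOf s = 2)
    (ht : orderOf t = 2) : IsConj s t := by
  classical
  let _ := Fintype.ofFinite G
  let _ := Helper74.irrFintype G
  obtain ⟨T⟩ := exists_tab h
  by_contra hcon
  obtain ⟨b1, b2, b3, hb1, hb2, hb3, hsum, hsq, h45, hΛ1, hΛ2, h11, h44, h55⟩ :=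
    involution_column h T hs
  obtain ⟨b1', b2', b3', hb1', hb2', hb3', hsum', hsq', h45', hΛ1', hΛ2', h11', h44', h55'⟩ :=
    involution_column h T ht
  have hso := Helper74.second_orthogonality (G := G) s t
  rw [if_neg hcon, T.hsum] at hso
  have hprinc : ∀ y : G, ((Helper79.principalIrr G : IrrCharacter G) : G → ℂ) y = 1 :=
    fun _ => rfl
  have cI : ∀ z : ℤ, conj ((z : ℂ)) = z := fun z => map_intCast (starRingEnd ℂ) z
  rw [hprinc, hprinc, hb1, hb2, hb3, hb1', hb2', hb3', h45, hΛ1, hΛ2, h11, h44, h55, h45', hΛ1',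
    hΛ2', h11', h44', h55'] at hso
  simp only [cI, map_one, map_neg, map_zero, map_ofNat] at hso
  have hI : (b1 * b1' + b2 * b2' + b3 * b3' : ℤ) = -36 := by
    have : ((b1 * b1' + b2 * b2' + b3 * b3' : ℤ) : ℂ) = ((-36 : ℤ) : ℂ) := by
      push_cast
      linear_combination hso
    exact_mod_cast this
  nlinarith [sq_nonneg (b1 + b1'), sq_nonneg (b2 + b2'), sq_nonneg (b3 + b3')]

/-- There are 165 involutions. -/
theorem card_involutions (h : Nat.card G = 7920) :
    Nat.card {t : G // orderOf t = 2} = 165 := by
  haveI : Fact (Nat.Prime 2) := ⟨by norm_num⟩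
  obtain ⟨t, ht⟩ := exists_prime_orderOf_dvd_card' (G := G) 2 (by rw [h]; norm_num)
  have hcl := Helper74.card_isConj_mul_card_centralizer t
  rw [card_centralizer2 h ht, h] at hcl
  have hset : {s : G // orderOf s = 2} = {s : G // IsConj s t} := by
    congr 1
    funext s
    apply propext
    constructor
    · intro hs; exact isConj_of_order2 h hs ht
    · intro hs
      obtain ⟨k, hk⟩ := isConj_iff.mp hs
      rw [← ht, ← hk, orderOf_conj']
  rw [hset]
  omega

/-- Restrictions on the orders of elements. -/
theorem orderOf_restrict (h : Nat.card G = 7920) (g : G) :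
    orderOf g ∣ 7920 ∧ (5 ∣ orderOf g → orderOf g = 5) ∧ (11 ∣ orderOf g → orderOf g = 11) ∧
      (2 ∣ orderOf g → orderOf g ∣ 48) := by
  have hpow : ∀ p : ℕ, p.Prime → p ∣ orderOf g → orderOf (g ^ (orderOf g / p)) = p := by
    intro p hp hd
    have h0 : 0 < orderOf g := orderOf_pos g
    rw [orderOf_pow' g (by
      intro h0'
      have := Nat.div_mul_cancel hd
      rw [h0', zero_mul] at this
      omega), Nat.gcd_eq_right (Nat.div_dvd_of_dvd hd)]
    exact Nat.div_div_self hd h0.ne'
  have hcomm : ∀ n : ℕ, Commute g (g ^ n) := fun n => (Commute.refl g).pow_right n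
  refine ⟨h ▸ orderOf_dvd_natCard g, ?_, ?_, ?_⟩
  · intro hd
    have hy := hpow 5 (by norm_num) hd
    have hmem := mem_zpowers_of_commute5 h hy (hcomm _)
    have := orderOf_dvd_natCard (⟨g, hmem⟩ : zpowers (g ^ (orderOf g / 5)))
    rw [Subgroup.orderOf_mk, Nat.card_zpowers, hy] at this
    rcases (Nat.dvd_prime (by norm_num : Nat.Prime 5)).mp this with h1 | h1
    · rw [h1] at hd; norm_num at hd
    · exact h1
  · intro hd
    have hy := hpow 11 (by norm_num) hd
    have hmem := mem_zpowers_of_commute11 h hy (hcomm _)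
    have := orderOf_dvd_natCard (⟨g, hmem⟩ : zpowers (g ^ (orderOf g / 11)))
    rw [Subgroup.orderOf_mk, Nat.card_zpowers, hy] at this
    rcases (Nat.dvd_prime (by norm_num : Nat.Prime 11)).mp this with h1 | h1
    · rw [h1] at hd; norm_num at hd
    · exact h1
  · intro hd
    have hy := hpow 2 (by norm_num) hd
    have hmem : g ∈ centralizer ({g ^ (orderOf g / 2)} : Set G) := by
      rw [Subgroup.mem_centralizer_singleton_iff]
      exact (hcomm _).eq
    have := orderOf_dvd_natCard (⟨g, hmem⟩ : centralizer ({g ^ (orderOf g / 2)} : Set G))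
    rwa [Subgroup.orderOf_mk, card_centralizer2 h hy] at this

end Cfsg.Agent.Helper20.U11
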