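-- helper20: the candidate permutations on `Option (ZMod 11)` for the 12-point action of a
-- simple group of order 7920.
import Mathlib

set_option autoImplicit false

namespace Cfsg.Agent.Helper20.U11

/-- The translation `j ↦ j + 1`, fixing the point at infinity. -/
def x0f : Option (ZMod 11) → Option (ZMod 11)
  | none => none
  | some j => some (j + 1)

/-- The multiplication `j ↦ 3 j`, fixing the point at infinity. -/
def v0f : Option (ZMod 11) → Option (ZMod 11)
  | none => none
  | some j => some (3 * j)

/-- The candidate for the action of the element `c` of order 4: it swaps `∞` and `0`, sends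
`3^m` to `9^m r` and `2·3^m` to `9^m r2`. -/
def candFun (r r2 : ZMod 11) : Option (ZMod 11) → Option (ZMod 11)
  | none => some 0
  | some j =>
    if j = 0 then none
    else if j = 1 then some r
    else if j = 3 then some (9 * r)
    else if j = 9 then some (4 * r)
    else if j = 5 then some (3 * r)
    else if j = 4 then some (5 * r)
    else if j = 2 then some r2
    else if j = 6 then some (9 * r2)
    else if j = 7 then some (4 * r2)
    else if j = 10 then some (3 * r2)
    else some (5 * r2)

/-- The ten pairs `(r, r2)` for which `x0f, v0f, candFun r r2` generate a group of order 7920. -/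
def goodPairs : List (ZMod 11 × ZMod 11) :=
  [(2, 4), (2, 5), (6, 1), (6, 4), (7, 1), (7, 3), (8, 5), (8, 9), (10, 3), (10, 9)]

end Cfsg.Agent.Helper20.U11
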