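-- helper20: the 100 candidates for the action of `c` on 12 points; 90 of them are impossible.
import Mathlib
import Cfsg.Agent.Helper20.U11.Defs
import Cfsg.Agent.Helper20.U11.Basic

set_option autoImplicit false

namespace Cfsg.Agent.Helper20.U11

open Cfsg

/-- The three generators as functions, given the candidate `cf` for `c`. -/
def genF (cf : Option (ZMod 11) → Option (ZMod 11)) :
    Fin 3 → Option (ZMod 11) → Option (ZMod 11)
  | 0 => x0f
  | 1 => v0f
  | 2 => cf

/-- Evaluation of a word in the generators. -/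
def evalW (cf : Option (ZMod 11) → Option (ZMod 11)) :
    List (Fin 3) → Option (ZMod 11) → Option (ZMod 11)
  | [] => id
  | i :: W => genF cf i ∘ evalW cf W

/-- The possible orders of elements in a simple group of order 7920 (necessary conditions). -/
def allowedOrd (o : ℕ) : Prop :=
  o ∣ 7920 ∧ (5 ∣ o → o = 5) ∧ (11 ∣ o → o = 11) ∧ (2 ∣ o → o ∣ 48)

instance : DecidablePred allowedOrd := fun o => by unfold allowedOrd; infer_instance

/-- For each impossible candidate, a word and its order. -/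
def witTable : List ((ZMod 11 × ZMod 11) × List (Fin 3) × ℕ) :=
  [((1, 2), [0, 0, 2], 18), ((1, 6), [0, 0, 2], 18), ((1, 7), [0, 2], 28), ((1, 8), [0, 2], 18),
   ((1, 10), [0, 0, 2], 20), ((2, 1), [0, 0, 2], 10), ((2, 3), [0, 0, 2], 10),
   ((2, 9), [0, 1, 2], 10), ((3, 2), [0, 0, 2, 1], 28), ((3, 6), [0, 1, 2], 28),
   ((3, 7), [0, 2], 30), ((3, 8), [0, 2], 18), ((3, 10), [0, 0, 2], 30), ((4, 2), [0, 2, 1], 30),
   ((4, 6), [0, 1, 2], 28), ((4, 7), [0, 2], 18), ((4, 8), [0, 0, 2], 10), ((4, 10), [0, 2], 10),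
   ((5, 2), [0, 2], 30), ((5, 6), [0, 0, 2], 30), ((5, 7), [0, 0, 2], 28), ((5, 8), [0, 2], 20),
   ((5, 10), [0, 0, 1, 2], 10), ((6, 3), [0, 0, 2], 35), ((6, 5), [0, 2], 10),
   ((6, 9), [0, 2], 35), ((7, 4), [0, 2], 35), ((7, 5), [0, 2], 10), ((7, 9), [0, 0, 2], 21),
   ((8, 1), [0, 0, 2], 35), ((8, 3), [0, 2, 1], 10), ((8, 4), [0, 0, 1, 2], 10),
   ((9, 2), [0, 2, 1], 18), ((9, 6), [0, 2, 1], 10), ((9, 7), [0, 2], 28),
   ((9, 8), [0, 1, 2], 30), ((9, 10), [0, 2], 42), ((10, 1), [0, 2], 21), ((10, 4), [0, 2], 15),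
   ((10, 5), [0, 0, 2, 1], 10)]

/-- The candidate `(r, r2)` is refuted by a word of forbidden order. -/
def IsBad (r r2 : ZMod 11) : Prop :=
  ∃ e ∈ witTable, e.1 = (r, r2) ∧ ¬ allowedOrd e.2.2 ∧ 0 < e.2.2 ∧
    (∀ p, (evalW (candFun r r2) e.2.1)^[e.2.2] p = p) ∧
    ∀ d < e.2.2, d ∣ e.2.2 → ¬ ∀ p, (evalW (candFun r r2) e.2.1)^[d] p = p

instance (r r2 : ZMod 11) : Decidable (IsBad r r2) := by unfold IsBad; infer_instance

set_option maxRecDepth 100000 in
theorem cand_table : ∀ r r2 : ZMod 11, r ≠ 0 → r2 ≠ 0 →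
    (r, r2) ∈ goodPairs ∨ ¬ Function.Injective (candFun r r2) ∨ IsBad r r2 := by
  decide +kernel

theorem cand_arith : ∀ r : ZMod 11, 3 * (3 * (9 * r)) = 4 * r ∧ 3 * (3 * (4 * r)) = 3 * r ∧
    3 * (3 * (3 * r)) = 5 * r ∧ 3 * (3 * r) = 9 * r := by
  decide +kernel

universe u

/-- Evaluation of a word in a group. -/
def evalG {G : Type u} [Group G] (x v c : G) : List (Fin 3) → G
  | [] => 1
  | 0 :: W => x * evalG x v c W
  | 1 :: W => v * evalG x v c W
  | 2 :: W => c * evalG x v c W

theorem evalG_apply {G : Type u} [Group G] {x v c : G}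
    (ρ : G →* Equiv.Perm (Option (ZMod 11))) {cf : Option (ZMod 11) → Option (ZMod 11)}
    (hρx : ∀ p, ρ x p = x0f p) (hρv : ∀ p, ρ v p = v0f p) (hρc : ∀ p, ρ c p = cf p)
    (W : List (Fin 3)) (p : Option (ZMod 11)) : ρ (evalG x v c W) p = evalW cf W p := by
  induction W generalizing p with
  | nil => simp [evalG, evalW]
  | cons i W ih =>
    fin_cases i
    · show ρ (x * evalG x v c W) p = x0f (evalW cf W p)
      rw [map_mul, Equiv.Perm.mul_apply, ih, hρx]
    · show ρ (v * evalG x v c W) p = v0f (evalW cf W p)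
      rw [map_mul, Equiv.Perm.mul_apply, ih, hρv]
    · show ρ (c * evalG x v c W) p = cf (evalW cf W p)
      rw [map_mul, Equiv.Perm.mul_apply, ih, hρc]

theorem perm_pow_apply_eq_iterate {α : Type*} (π : Equiv.Perm α) (n : ℕ) (p : α) :
    (π ^ n) p = (⇑π)^[n] p := by
  induction n generalizing p with
  | zero => rfl
  | succ n ih =>
    rw [pow_succ, Equiv.Perm.mul_apply, ih, Function.iterate_succ_apply]

/-- The action of `c` is one of the ten good candidates. -/
theorem cand_classify {G : Type u} [Group G] [Finite G] [IsSimpleGroup G]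
    (h : Nat.card G = 7920) {x v c : G} (hcv : c * v * c⁻¹ = v ^ 2)
    (ρ : G →* Equiv.Perm (Option (ZMod 11))) (hinj : Function.Injective ρ)
    (hρx : ∀ p, ρ x p = x0f p) (hρv : ∀ p, ρ v p = v0f p) (hc0 : ρ c none = some 0)
    (hc1 : ρ c (some 0) = none) :
    ∃ r r2 : ZMod 11, (r, r2) ∈ goodPairs ∧ ∀ p, ρ c p = candFun r r2 p := by
  -- the functional equation
  have hfe : ∀ p, ρ c (v0f p) = v0f (v0f (ρ c p)) := by
    intro p
    have h1 : c * v = v ^ 2 * c := by
      have := congrArg (· * c) hcv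
      simpa using this
    have h2 := congrArg (fun g => ρ g p) h1
    simp only [map_mul, Equiv.Perm.mul_apply, pow_two] at h2
    rw [hρv, hρv, hρv] at h2
    exact h2
  have hcinj : Function.Injective (ρ c) := (ρ c).injective
  -- the two parameters
  have hpar : ∀ j : ZMod 11, j ≠ 0 → ∃ r : ZMod 11, r ≠ 0 ∧ ρ c (some j) = some r := by
    intro j hj
    rcases hrc : ρ c (some j) with _ | r
    · exfalso
      have := hcinj (hrc.trans hc1.symm)
      exact hj (Option.some.inj this)
    · refine ⟨r, ?_, rfl⟩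
      rintro rfl
      have := hcinj (hrc.trans hc0.symm)
      exact absurd this (by simp)
  obtain ⟨r, hr0, hr⟩ := hpar 1 (by decide)
  obtain ⟨r2, hr20, hr2⟩ := hpar 2 (by decide)
  have step : ∀ j s : ZMod 11, ρ c (some j) = some s → ρ c (some (3 * j)) = some (3 * (3 * s)) := by
    intro j s hjs
    have := hfe (some j)
    rw [hjs] at this
    exact this
  have hv3 : ρ c (some 3) = some (9 * r) := by
    have := step 1 r hr
    rwa [show (3 * 1 : ZMod 11) = 3 from by decide, (cand_arith r).2.2.2] at this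
  have hv9 : ρ c (some 9) = some (4 * r) := by
    have := step 3 _ hv3
    rwa [show (3 * 3 : ZMod 11) = 9 from by decide, (cand_arith r).1] at this
  have hv5 : ρ c (some 5) = some (3 * r) := by
    have := step 9 _ hv9
    rwa [show (3 * 9 : ZMod 11) = 5 from by decide, (cand_arith r).2.1] at this
  have hv4 : ρ c (some 4) = some (5 * r) := by
    have := step 5 _ hv5
    rwa [show (3 * 5 : ZMod 11) = 4 from by decide, (cand_arith r).2.2.1] at this
  have hv6 : ρ c (some 6) = some (9 * r2) := by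
    have := step 2 r2 hr2
    rwa [show (3 * 2 : ZMod 11) = 6 from by decide, (cand_arith r2).2.2.2] at this
  have hv7 : ρ c (some 7) = some (4 * r2) := by
    have := step 6 _ hv6
    rwa [show (3 * 6 : ZMod 11) = 7 from by decide, (cand_arith r2).1] at this
  have hv10 : ρ c (some 10) = some (3 * r2) := by
    have := step 7 _ hv7
    rwa [show (3 * 7 : ZMod 11) = 10 from by decide, (cand_arith r2).2.1] at this
  have hv8 : ρ c (some 8) = some (5 * r2) := by
    have := step 10 _ hv10
    rwa [show (3 * 10 : ZMod 11) = 8 from by decide, (cand_arith r2).2.2.1] at this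
  have hcand : ∀ p, ρ c p = candFun r r2 p := by
    intro p
    rcases p with _ | j
    · exact hc0
    · have hj : j = 0 ∨ j = 1 ∨ j = 2 ∨ j = 3 ∨ j = 4 ∨ j = 5 ∨ j = 6 ∨ j = 7 ∨ j = 8 ∨ j = 9 ∨
          j = 10 := by
        revert j; decide
      rcases hj with rfl | rfl | rfl | rfl | rfl | rfl | rfl | rfl | rfl | rfl | rfl
      · exact hc1
      · exact hr
      · exact hr2
      · exact hv3
      · exact hv4
      · exact hv5
      · exact hv6
      · exact hv7
      · exact hv8
      · exact hv9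
      · exact hv10
  have hfun : ⇑(ρ c) = candFun r r2 := funext hcand
  rcases cand_table r r2 hr0 hr20 with hgood | hni | hbad
  · exact ⟨r, r2, hgood, hcand⟩
  · exact absurd (hfun ▸ hcinj) hni
  · exfalso
    obtain ⟨e, -, -, hna, hpos, hid, hnd⟩ := hbad
    obtain ⟨g, hg⟩ : ∃ g : G, g = evalG x v c e.2.1 := ⟨_, rfl⟩
    have hfg : ⇑(ρ g) = evalW (candFun r r2) e.2.1 := by
      funext p
      rw [hg]
      exact evalG_apply ρ hρx hρv hcand _ p
    have hpow : ∀ n : ℕ, (ρ g) ^ n = 1 ↔ ∀ p, (evalW (candFun r r2) e.2.1)^[n] p = p := by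
      intro n
      rw [← hfg]
      constructor
      · intro h1 p
        rw [← perm_pow_apply_eq_iterate, h1]
        rfl
      · intro h1
        ext p
        rw [perm_pow_apply_eq_iterate, h1]
        rfl
    have hdvd : orderOf (ρ g) ∣ e.2.2 := orderOf_dvd_of_pow_eq_one ((hpow _).mpr hid)
    have hle : orderOf (ρ g) ≤ e.2.2 := Nat.le_of_dvd hpos hdvd
    have heq : orderOf (ρ g) = e.2.2 := by
      rcases Nat.lt_or_ge (orderOf (ρ g)) e.2.2 with hlt | hge
      · exact absurd ((hpow _).mp (pow_orderOf_eq_one (ρ g))) (hnd _ hlt hdvd)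
      · exact le_antisymm hle hge
    have hog : orderOf g = e.2.2 := by rw [← heq, orderOf_injective ρ hinj g]
    apply hna
    have := orderOf_restrict h g
    rw [hog] at this
    exact this

end Cfsg.Agent.Helper20.U11
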