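-- helper20: the elements x (order 11), v (order 5), c (order 4) of a simple group of order 7920.
import Mathlib
import Cfsg.Agent.Helper20.U11.Basic

set_option autoImplicit false
set_option linter.style.haveILetI false

namespace Cfsg.Agent.Helper20.U11

open Cfsg Subgroup

universe u

/-- Iterating a conjugation relation. -/
theorem conj_pow_eq {G : Type u} [Group G] {g x : G} {k : ℕ} (hk : g * x * g⁻¹ = x ^ k) (j : ℕ) :
    g ^ j * x * (g ^ j)⁻¹ = x ^ (k ^ j) := by
  induction j with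
  | zero => simp
  | succ j ih =>
    have : g ^ (j + 1) * x * (g ^ (j + 1))⁻¹ = g * (g ^ j * x * (g ^ j)⁻¹) * g⁻¹ := by
      rw [pow_succ']
      group
    rw [this, ih]
    have h2 : g * x ^ (k ^ j) * g⁻¹ = (g * x * g⁻¹) ^ (k ^ j) := by
      rw [conj_pow]
    rw [h2, hk, ← pow_mul, pow_succ, mul_comm]

/-- Conjugation relation and powers of the conjugated element. -/
theorem conj_pow_right {G : Type u} [Group G] {g x : G} {k : ℕ} (hk : g * x * g⁻¹ = x ^ k)
    (j : ℕ) : g * x ^ j * g⁻¹ = x ^ (k * j) := by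
  rw [← conj_pow, hk, ← pow_mul]

variable {G : Type u} [Group G] [Finite G] [IsSimpleGroup G]

theorem exists_v (h : Nat.card G = 7920) {x : G} (hx : orderOf x = 11) :
    ∃ v : G, orderOf v = 5 ∧ v * x * v⁻¹ = x ^ 3 := by
  classical
  haveI : Fact (Nat.Prime 5) := ⟨by norm_num⟩
  have hN := card_normalizer11 h hx
  obtain ⟨v', hv'⟩ := exists_prime_orderOf_dvd_card'
    (G := ↥(normalizer ((zpowers x : Subgroup G) : Set G))) 5 (by rw [hN]; norm_num)
  have hv5 : orderOf (v' : G) = 5 := by rw [Subgroup.orderOf_coe, hv']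
  have hmem : (v' : G) * x * (v' : G)⁻¹ ∈ zpowers x :=
    (Subgroup.mem_normalizer_iff.mp v'.2 x).mp (Subgroup.mem_zpowers x)
  rw [← mem_powers_iff_mem_zpowers, mem_powers_iff_mem_range_orderOf, hx] at hmem
  obtain ⟨k, hk, hk'⟩ := Finset.mem_image.mp hmem
  rw [Finset.mem_range] at hk
  have hkx : (v' : G) * x * (v' : G)⁻¹ = x ^ k := hk'.symm
  have hx11 : x ^ 11 = 1 := by rw [← hx]; exact pow_orderOf_eq_one x
  have hx1 : x ≠ 1 := by
    intro h1
    rw [h1, orderOf_one] at hx
    norm_num at hx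
  -- k ^ 5 ≡ 1 mod 11
  have h5 := conj_pow_eq hkx 5
  have hv'5 : (v' : G) ^ 5 = 1 := by rw [← hv5]; exact pow_orderOf_eq_one _
  rw [hv'5] at h5
  simp only [one_mul, inv_one, mul_one] at h5
  have hmod : k ^ 5 % 11 = 1 := by
    have h6 : x ^ (k ^ 5) = x ^ 1 := by rw [← h5, pow_one]
    have := (pow_eq_pow_iff_modEq (x := x)).mp h6
    rw [hx] at this
    exact this
  have hk1 : k ≠ 1 := by
    rintro rfl
    rw [pow_one] at hkx
    have hcomm : Commute (v' : G) x := by
      show (v' : G) * x = x * (v' : G)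
      have := congrArg (· * (v' : G)) hkx
      simpa using this
    have hm := mem_zpowers_of_commute11 h hx hcomm
    have := orderOf_dvd_natCard (⟨(v' : G), hm⟩ : zpowers x)
    rw [Subgroup.orderOf_mk, Nat.card_zpowers, hx, hv5] at this
    norm_num at this
  have key : ∀ j : ℕ, 0 < j → j < 5 → k ^ j % 11 = 3 →
      ∃ v : G, orderOf v = 5 ∧ v * x * v⁻¹ = x ^ 3 := by
    intro j hj0 hj5 hj
    refine ⟨(v' : G) ^ j, ?_, ?_⟩
    · rw [orderOf_pow' _ hj0.ne', hv5]
      have : Nat.gcd 5 j = 1 := by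
        interval_cases j <;> rfl
      rw [this]
    · rw [conj_pow_eq hkx j]
      apply (pow_eq_pow_iff_modEq (x := x)).mpr
      rw [hx]
      exact hj
  interval_cases k
  · norm_num at hmod
  · exact absurd rfl hk1
  · norm_num at hmod
  · exact key 1 (by norm_num) (by norm_num) (by norm_num)
  · exact key 4 (by norm_num) (by norm_num) (by norm_num)
  · exact key 2 (by norm_num) (by norm_num) (by norm_num)
  · norm_num at hmod
  · norm_num at hmod
  · norm_num at hmod
  · exact key 3 (by norm_num) (by norm_num) (by norm_num)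
  · norm_num at hmod

theorem exists_c (h : Nat.card G = 7920) {v : G} (hv : orderOf v = 5) :
    ∃ c : G, orderOf c = 4 ∧ c * v * c⁻¹ = v ^ 2 := by
  have hv5 : v ^ 5 = 1 := by rw [← hv]; exact pow_orderOf_eq_one v
  have hv2 : orderOf (v ^ 2) = 5 := by
    rw [orderOf_pow' _ (by norm_num), hv]
    rfl
  obtain ⟨c0, hc0⟩ := isConj_iff.mp (isConj_of_order5 h hv hv2)
  have hpowmod : ∀ a b : ℕ, a % 5 = b % 5 → v ^ a = v ^ b := by
    intro a b hab
    apply (pow_eq_pow_iff_modEq (x := v)).mpr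
    rw [hv]
    exact hab
  have h4 : c0 ^ 4 * v * (c0 ^ 4)⁻¹ = v := by
    rw [conj_pow_eq hc0 4]
    have := hpowmod (2 ^ 4) 1 (by norm_num)
    rw [this, pow_one]
  have hcomm : Commute (c0 ^ 4) v := by
    show c0 ^ 4 * v = v * c0 ^ 4
    have := congrArg (· * c0 ^ 4) h4
    simpa using this
  have hm := mem_zpowers_of_commute5 h hv hcomm
  have hc20 : c0 ^ 20 = 1 := by
    have hd := orderOf_dvd_natCard (⟨c0 ^ 4, hm⟩ : zpowers v)
    rw [Subgroup.orderOf_mk, Nat.card_zpowers, hv] at hd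
    have : (c0 ^ 4) ^ 5 = 1 := orderOf_dvd_iff_pow_eq_one.mp hd
    rw [← pow_mul] at this
    exact this
  refine ⟨c0 ^ 5, ?_, ?_⟩
  · have hc4 : (c0 ^ 5) ^ 4 = 1 := by rw [← pow_mul]; exact hc20
    have hc2 : (c0 ^ 5) ^ 2 ≠ 1 := by
      intro h2
      have h10 := conj_pow_eq hc0 10
      have h10' : c0 ^ 10 = 1 := by rw [← h2, ← pow_mul]
      rw [h10'] at h10
      simp only [one_mul, inv_one, mul_one] at h10
      have h3 : v ^ (2 ^ 10) = v ^ 4 := hpowmod _ _ (by norm_num)
      rw [h3] at h10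
      have h31 : v ^ 3 = 1 := by
        have : v * v ^ 3 = v * 1 := by
          rw [mul_one, ← pow_succ']
          exact h10.symm
        exact mul_left_cancel this
      have := orderOf_dvd_of_pow_eq_one h31
      rw [hv] at this
      norm_num at this
    have hd : orderOf (c0 ^ 5) ∣ 4 := orderOf_dvd_of_pow_eq_one hc4
    have hle : orderOf (c0 ^ 5) ≤ 4 := Nat.le_of_dvd (by norm_num) hd
    have hnd : ¬ orderOf (c0 ^ 5) ∣ 2 := fun hd2 => hc2 (orderOf_dvd_iff_pow_eq_one.mp hd2)
    interval_cases hh : orderOf (c0 ^ 5)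
    · simp at hd
    · exact absurd (by norm_num) hnd
    · exact absurd (by norm_num) hnd
    · norm_num at hd
    · rfl
  · rw [conj_pow_eq hc0 5]
    exact hpowmod _ _ (by norm_num)

end Cfsg.Agent.Helper20.U11
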