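-- helper20: a simple group of order 7920: list of irreducible characters, rationality.
import Mathlib
import Cfsg.Agent.Helper20.U11.Basic
import Cfsg.Agent.Helper82.GaloisConj
import Cfsg.Agent.Helper82.GaloisRat

set_option autoImplicit false
set_option linter.style.haveILetI false

namespace Cfsg.Agent.Helper20.U11

open Cfsg Subgroup Cfsg.Agent.Helper20.M11
open scoped ComplexConjugate

universe u

variable {G : Type u} [Group G] [Fintype G] [Fintype (IrrCharacter G)]

/-- Every irreducible character is one of the ten of the table. -/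
theorem irr_cases (T : Tab G) (χ : IrrCharacter G) :
    χ = Helper79.principalIrr G ∨ χ = T.ψ45 ∨ χ = T.ψa ∨ χ = T.ψb ∨ χ = T.ψc ∨ χ = T.Λ1 ∨
      χ = T.Λ2 ∨ χ = T.χ11 ∨ χ = T.χ44 ∨ χ = T.χ55 := by
  classical
  by_contra hcon
  simp only [not_or] at hcon
  obtain ⟨h1, h2, h3, h4, h5, h6, h7, h8, h9, h10⟩ := hcon
  have := T.hsum (fun χ' => if χ' = χ then 1 else 0)
  rw [Finset.sum_ite_eq' Finset.univ χ, if_pos (Finset.mem_univ _), if_neg (Ne.symm h1),
    if_neg (Ne.symm h2), if_neg (Ne.symm h3), if_neg (Ne.symm h4), if_neg (Ne.symm h5),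
    if_neg (Ne.symm h6), if_neg (Ne.symm h7), if_neg (Ne.symm h8), if_neg (Ne.symm h9),
    if_neg (Ne.symm h10)] at this
  norm_num at this

/-- The degree of an irreducible character of the table. -/
theorem degree_cases (T : Tab G) (χ : IrrCharacter G) :
    charDegree (χ : G → ℂ) = 1 ∨ charDegree (χ : G → ℂ) = 45 ∨ charDegree (χ : G → ℂ) = 10 ∨
      charDegree (χ : G → ℂ) = 16 ∨ charDegree (χ : G → ℂ) = 11 ∨
      charDegree (χ : G → ℂ) = 44 ∨ charDegree (χ : G → ℂ) = 55 := by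
  have hd1 : charDegree ((Helper79.principalIrr G : IrrCharacter G) : G → ℂ) = 1 :=
    Cfsg.Agent.Helper17.Exc.charDegree_principal
  rcases irr_cases T χ with rfl | rfl | rfl | rfl | rfl | rfl | rfl | rfl | rfl | rfl
  · exact Or.inl hd1
  · exact Or.inr (Or.inl T.hd45)
  · exact Or.inr (Or.inr (Or.inl T.hda))
  · exact Or.inr (Or.inr (Or.inl T.hdb))
  · exact Or.inr (Or.inr (Or.inl T.hdc))
  · exact Or.inr (Or.inr (Or.inr (Or.inl T.hdΛ1)))
  · exact Or.inr (Or.inr (Or.inr (Or.inl T.hdΛ2)))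
  · exact Or.inr (Or.inr (Or.inr (Or.inr (Or.inl T.hd11))))
  · exact Or.inr (Or.inr (Or.inr (Or.inr (Or.inr (Or.inl T.hd44)))))
  · exact Or.inr (Or.inr (Or.inr (Or.inr (Or.inr (Or.inr T.hd55)))))

/-- The Galois conjugate of an irreducible character, as an irreducible character. -/
noncomputable def galConj (χ : IrrCharacter G) (k : ℕ) (hk : k.Coprime (Nat.card G)) :
    IrrCharacter G :=
  ⟨fun g => (χ : G → ℂ) (g ^ k), Helper82.galoisConj_isIrrCharacter χ.2 k hk⟩

theorem galConj_degree (χ : IrrCharacter G) (k : ℕ) (hk : k.Coprime (Nat.card G)) :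
    charDegree ((galConj χ k hk : IrrCharacter G) : G → ℂ) = charDegree (χ : G → ℂ) := by
  have h1 := Helper78.irrChar_one_eq_charDegree (galConj χ k hk).2
  have h2 := Helper78.irrChar_one_eq_charDegree χ.2
  have h3 : ((galConj χ k hk : IrrCharacter G) : G → ℂ) 1 = (χ : G → ℂ) 1 := by
    show (χ : G → ℂ) (1 ^ k) = (χ : G → ℂ) 1
    rw [one_pow]
  rw [h1, h2] at h3
  exact_mod_cast h3

theorem exists_int_of_rat_of_isIntegral {z : ℂ} (q : ℚ) (hq : z = (q : ℂ))
    (hz : IsIntegral ℤ z) : ∃ n : ℤ, z = n := by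
  rw [hq] at hz
  have h0 : IsIntegral ℤ (algebraMap ℚ ℂ q) := by
    simpa using hz
  have h1 : IsIntegral ℤ q := (isIntegral_algebraMap_iff (algebraMap ℚ ℂ).injective).1 h0
  obtain ⟨n, hn⟩ := IsIntegrallyClosed.isIntegral_iff.1 h1
  refine ⟨n, ?_⟩
  rw [hq, ← hn]
  simp

/-- A character which is the only one of its degree is integer valued. -/
theorem int_valued_of_unique (χ : IrrCharacter G)
    (huniq : ∀ χ' : IrrCharacter G, charDegree (χ' : G → ℂ) = charDegree (χ : G → ℂ) → χ' = χ)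
    (g : G) : ∃ n : ℤ, (χ : G → ℂ) g = n := by
  have hall : ∀ k, k < Nat.card G → k.Coprime (Nat.card G) →
      (χ : G → ℂ) (g ^ k) = (χ : G → ℂ) g := by
    intro k _ hk
    have := huniq (galConj χ k hk) (galConj_degree χ k hk)
    exact congrFun (congrArg Subtype.val this) g
  obtain ⟨q, hq⟩ := Helper82.char_rational_of_pow_eq (Helper74.irr_isCharacter χ) g (Nat.card G)
    Nat.card_pos (pow_card_eq_one') hall
  exact exists_int_of_rat_of_isIntegral q hq (Helper78.isIntegral_irrChar_apply χ.2 g)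

/-- The sum of two characters which are the only two of their degree is integer valued. -/
theorem int_valued_of_pair (χ₁ χ₂ : IrrCharacter G)
    (hd : charDegree (χ₂ : G → ℂ) = charDegree (χ₁ : G → ℂ))
    (huniq : ∀ χ' : IrrCharacter G, charDegree (χ' : G → ℂ) = charDegree (χ₁ : G → ℂ) →
      χ' = χ₁ ∨ χ' = χ₂) (hne : χ₁ ≠ χ₂)
    (g : G) : ∃ n : ℤ, (χ₁ : G → ℂ) g + (χ₂ : G → ℂ) g = n := by
  have hinj : ∀ (k : ℕ) (hk : k.Coprime (Nat.card G)), galConj χ₁ k hk ≠ galConj χ₂ k hk := by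
    intro k hk heq
    apply hne
    apply Subtype.ext
    funext y
    obtain ⟨z, hz⟩ := (powCoprime (G := G) hk.symm).surjective y
    have hz' : z ^ k = y := hz
    have := congrFun (congrArg Subtype.val heq) z
    have h2 : (χ₁ : G → ℂ) (z ^ k) = (χ₂ : G → ℂ) (z ^ k) := this
    rw [hz'] at h2
    exact h2
  have hχ : IsCharacter G (fun y => (χ₁ : G → ℂ) y + (χ₂ : G → ℂ) y) :=
    Helper74.isCharacter_add (Helper74.irr_isCharacter χ₁) (Helper74.irr_isCharacter χ₂)
  have hall : ∀ k, k < Nat.card G → k.Coprime (Nat.card G) →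
      (fun y => (χ₁ : G → ℂ) y + (χ₂ : G → ℂ) y) (g ^ k) =
        (fun y => (χ₁ : G → ℂ) y + (χ₂ : G → ℂ) y) g := by
    intro k _ hk
    have h1 := huniq (galConj χ₁ k hk) (galConj_degree χ₁ k hk)
    have h2 := huniq (galConj χ₂ k hk) ((galConj_degree χ₂ k hk).trans hd)
    have e1 : ∀ χ' : IrrCharacter G, galConj χ₁ k hk = χ' →
        (χ₁ : G → ℂ) (g ^ k) = (χ' : G → ℂ) g := fun χ' he =>
      congrFun (congrArg Subtype.val he) g
    have e2 : ∀ χ' : IrrCharacter G, galConj χ₂ k hk = χ' →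
        (χ₂ : G → ℂ) (g ^ k) = (χ' : G → ℂ) g := fun χ' he =>
      congrFun (congrArg Subtype.val he) g
    show (χ₁ : G → ℂ) (g ^ k) + (χ₂ : G → ℂ) (g ^ k) = (χ₁ : G → ℂ) g + (χ₂ : G → ℂ) g
    rcases h1 with h1 | h1 <;> rcases h2 with h2 | h2
    · exact absurd (h1.trans h2.symm) (hinj k hk)
    · rw [e1 _ h1, e2 _ h2]
    · rw [e1 _ h1, e2 _ h2, add_comm]
    · exact absurd (h1.trans h2.symm) (hinj k hk)
  obtain ⟨q, hq⟩ := Helper82.char_rational_of_pow_eq hχ g (Nat.card G)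
    Nat.card_pos (pow_card_eq_one') hall
  refine exists_int_of_rat_of_isIntegral q hq ?_
  exact IsIntegral.add (Helper78.isIntegral_irrChar_apply χ₁.2 g)
    (Helper78.isIntegral_irrChar_apply χ₂.2 g)

end Cfsg.Agent.Helper20.U11
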