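-- helper20: a simple group of order 7920 acting on the cosets of N(P11): the permutation
-- character is 1 + 45 + 16 + 16' + 11 + 55.
import Mathlib
import Cfsg.Agent.Helper20.U11.Chars
import Cfsg.Agent.Helper20.U11.Cfg
import Cfsg.Agent.Helper63.M11U35
import Cfsg.Agent.Helper4.M11V12

set_option autoImplicit false
set_option linter.style.haveILetI false
set_option linter.unusedSectionVars false

namespace Cfsg.Agent.Helper20.U11

open Cfsg Subgroup Cfsg.Agent.Helper20.M11
open Cfsg.Agent.Helper12.Orbital Cfsg.Agent.Helper12.PermCharBasics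
open scoped ComplexConjugate

universe u v

variable {G : Type u} [Group G] [Fintype G] [Fintype (IrrCharacter G)] [IsSimpleGroup G]
  {Ω : Type v} [Fintype Ω] [DecidableEq Ω] [MulAction G Ω] [MulAction.IsPretransitive G Ω]

/-- The multiplicity formula. -/
theorem mult_formula (h : Nat.card G = 7920) {x v : G} (hx : orderOf x = 11)
    (hv : orderOf v = 5) (hvx : v * x * v⁻¹ = x ^ 3) (a : Ω)
    (hstab : MulAction.stabilizer G a = normalizer ((zpowers x : Subgroup G) : Set G))
    (χ : IrrCharacter G) :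
    55 * classInner (permChar G Ω) (χ : G → ℂ) =
      (χ : G → ℂ) 1 + 5 * ((χ : G → ℂ) x + conj ((χ : G → ℂ) x)) + 44 * conj ((χ : G → ℂ) v) := by
  classical
  have hχ := Helper74.irr_isCharacter χ
  have hcf := Helper74.irr_isClassFunction χ
  have hcf' : IsClassFunction G (fun g => conj ((χ : G → ℂ) g)) :=
    Helper74.isClassFunction_conj hcf
  let _ : Fintype ↥(MulAction.stabilizer G a) := Fintype.ofFinite _
  let _ : Fintype ↥(normalizer ((zpowers x : Subgroup G) : Set G)) := Fintype.ofFinite _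
  have h1 := Cfsg.Agent.Helper63.M11U35.classInner_permChar_eq_stab_aux (Ω := Ω) a hcf
  have hcard : Nat.card (MulAction.stabilizer G a) = 55 := by
    rw [hstab]; exact card_normalizer11 h hx
  have hsum : ∑ b : MulAction.stabilizer G a, conj ((χ : G → ℂ) (b : G)) =
      ∑ b : ↥(normalizer ((zpowers x : Subgroup G) : Set G)), conj ((χ : G → ℂ) (b : G)) := by
    exact Fintype.sum_equiv (MulEquiv.subgroupCongr hstab).toEquiv _ _ (fun b => rfl)
  rw [hsum, Cfsg.Agent.Helper4.M11V12.sum_normalizer11 h hx hv hvx hcf', hcard] at h1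
  rw [h1, Helper74.char_inv hχ x]
  have h1' : (χ : G → ℂ) 1 = conj ((χ : G → ℂ) 1) := by
    rw [Helper78.irrChar_one_eq_charDegree χ.2]
    simp
  rw [← h1', Complex.conj_conj]
  push_cast
  field_simp
  ring

/-- The centralizer of an element of order 11 has order 11. -/
theorem card_centralizer11 (h : Nat.card G = 7920) {x : G} (hx : orderOf x = 11) :
    Nat.card (centralizer ({x} : Set G)) = 11 := by
  have heq : centralizer ({x} : Set G) = zpowers x := by
    apply le_antisymm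
    · intro g hg
      rw [Subgroup.mem_centralizer_singleton_iff] at hg
      exact mem_zpowers_of_commute11 h hx hg
    · rw [Subgroup.zpowers_le, Subgroup.mem_centralizer_singleton_iff]
  rw [heq, Nat.card_zpowers, hx]

set_option maxHeartbeats 1600000 in
/-- The multiplicities of the ten irreducible characters in the permutation character. -/
theorem mults (h : Nat.card G = 7920) (T : Tab G) {v : G}
    (hv : orderOf v = 5) (hvx : v * T.x * v⁻¹ = T.x ^ 3) (a : Ω)
    (hstab : MulAction.stabilizer G a = normalizer ((zpowers T.x : Subgroup G) : Set G)) :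
    classInner (permChar G Ω) ((Helper79.principalIrr G : IrrCharacter G) : G → ℂ) = 1 ∧
    classInner (permChar G Ω) (T.ψ45 : G → ℂ) = 1 ∧
    classInner (permChar G Ω) (T.ψa : G → ℂ) = 0 ∧
    classInner (permChar G Ω) (T.ψb : G → ℂ) = 0 ∧
    classInner (permChar G Ω) (T.ψc : G → ℂ) = 0 ∧
    classInner (permChar G Ω) (T.Λ1 : G → ℂ) = 1 ∧
    classInner (permChar G Ω) (T.Λ2 : G → ℂ) = 1 ∧
    classInner (permChar G Ω) (T.χ11 : G → ℂ) = 1 ∧
    classInner (permChar G Ω) (T.χ44 : G → ℂ) = 0 ∧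
    classInner (permChar G Ω) (T.χ55 : G → ℂ) = 1 := by
  classical
  have hvv : ∀ χ : IrrCharacter G, (χ : G → ℂ) v = (χ : G → ℂ) T.v := by
    intro χ
    obtain ⟨g, hg⟩ := isConj_iff.mp (isConj_of_order5 h hv T.hv)
    rw [← hg]
    exact (Helper74.irr_isClassFunction χ v g).symm
  have hone : ∀ χ : IrrCharacter G, (χ : G → ℂ) 1 = (charDegree (χ : G → ℂ) : ℂ) :=
    fun χ => Helper78.irrChar_one_eq_charDegree χ.2
  have hprinc : ∀ y : G, ((Helper79.principalIrr G : IrrCharacter G) : G → ℂ) y = 1 :=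
    fun _ => rfl
  have F := fun χ => mult_formula (Ω := Ω) h T.hx hv hvx a hstab χ
  have f1 := F (Helper79.principalIrr G)
  have f45 := F T.ψ45
  have fa := F T.ψa
  have fb := F T.ψb
  have fc := F T.ψc
  have fΛ1 := F T.Λ1
  have fΛ2 := F T.Λ2
  have f11 := F T.χ11
  have f44 := F T.χ44
  have f55 := F T.χ55
  rw [hprinc, hprinc, hprinc] at f1
  rw [hone, hvv, T.hd45, T.hx45, T.hv45] at f45
  rw [hone, hvv, T.hda, T.hxa, T.hva] at fa
  rw [hone, hvv, T.hdb, T.hxb, T.hvb] at fb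
  rw [hone, hvv, T.hdc, T.hxc, T.hvc] at fc
  rw [hone, hvv, T.hdΛ1, T.hvΛ1] at fΛ1
  rw [hone, hvv, T.hdΛ2, T.hvΛ2] at fΛ2
  rw [hone, hvv, T.hd11, T.hx11, T.hv11] at f11
  rw [hone, hvv, T.hd44, T.hx44, T.hv44] at f44
  rw [hone, hvv, T.hd55, T.hx55, T.hv55] at f55
  simp only [map_one, map_zero, map_neg] at f1 f45 fa fb fc fΛ1 fΛ2 f11 f44 f55
  -- the exceptional pair
  obtain ⟨n1, hn1⟩ : ∃ n : ℕ, classInner (permChar G Ω) (T.Λ1 : G → ℂ) = n :=
    ⟨_, mult_spec (Ω := Ω) T.Λ1⟩
  obtain ⟨n2, hn2⟩ : ∃ n : ℕ, classInner (permChar G Ω) (T.Λ2 : G → ℂ) = n :=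
    ⟨_, mult_spec (Ω := Ω) T.Λ2⟩
  have hso := Helper74.second_orthogonality (G := G) T.x T.x
  rw [if_pos (IsConj.refl _), T.hsum, card_centralizer11 h T.hx] at hso
  rw [hprinc, T.hx45, T.hxa, T.hxb, T.hxc, T.hx11, T.hx44, T.hx55] at hso
  simp only [map_one, map_zero, map_neg] at hso
  have hnorm : Complex.normSq ((T.Λ1 : G → ℂ) T.x) + Complex.normSq ((T.Λ2 : G → ℂ) T.x) = 6 := by
    have : ((Complex.normSq ((T.Λ1 : G → ℂ) T.x) + Complex.normSq ((T.Λ2 : G → ℂ) T.x) : ℝ) : ℂ)
        = ((6 : ℝ) : ℂ) := by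
      push_cast
      rw [← Complex.mul_conj, ← Complex.mul_conj]
      linear_combination hso
    exact_mod_cast this
  have hre1 : (55 : ℝ) * n1 = 60 + 10 * ((T.Λ1 : G → ℂ) T.x).re := by
    have : (((55 : ℝ) * n1 : ℝ) : ℂ) = ((60 + 10 * ((T.Λ1 : G → ℂ) T.x).re : ℝ) : ℂ) := by
      push_cast
      rw [← hn1]
      have := Complex.add_conj ((T.Λ1 : G → ℂ) T.x)
      push_cast at this
      linear_combination fΛ1 + 5 * this
    exact_mod_cast this
  have hre2 : (55 : ℝ) * n2 = 60 + 10 * ((T.Λ2 : G → ℂ) T.x).re := by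
    have : (((55 : ℝ) * n2 : ℝ) : ℂ) = ((60 + 10 * ((T.Λ2 : G → ℂ) T.x).re : ℝ) : ℂ) := by
      push_cast
      rw [← hn2]
      have := Complex.add_conj ((T.Λ2 : G → ℂ) T.x)
      push_cast at this
      linear_combination fΛ2 + 5 * this
    exact_mod_cast this
  have hresum : ((T.Λ1 : G → ℂ) T.x).re + ((T.Λ2 : G → ℂ) T.x).re = -1 := by
    have := congrArg Complex.re T.hxΛ
    simpa using this
  have hsum2 : n1 + n2 = 2 := by
    have : ((n1 + n2 : ℕ) : ℝ) = 2 := by
      push_cast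
      linarith
    exact_mod_cast this
  have hn1' : n1 = 1 := by
    have hsq1 : ((T.Λ1 : G → ℂ) T.x).re ^ 2 ≤ 6 := by
      have := Complex.normSq_apply ((T.Λ1 : G → ℂ) T.x)
      have h2 := Complex.normSq_nonneg ((T.Λ2 : G → ℂ) T.x)
      nlinarith [mul_self_nonneg ((T.Λ1 : G → ℂ) T.x).im]
    have hle : n1 ≤ 2 := by omega
    interval_cases n1
    · have : ((T.Λ1 : G → ℂ) T.x).re = -6 := by push_cast at hre1; linarith
      rw [this] at hsq1
      norm_num at hsq1
    · rfl
    · have : ((T.Λ1 : G → ℂ) T.x).re = 5 := by push_cast at hre1; linarith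
      rw [this] at hsq1
      norm_num at hsq1
  have hn2' : n2 = 1 := by omega
  refine ⟨?_, ?_, ?_, ?_, ?_, ?_, ?_, ?_, ?_, ?_⟩
  · linear_combination (1 / 55 : ℂ) * f1
  · linear_combination (1 / 55 : ℂ) * f45
  · linear_combination (1 / 55 : ℂ) * fa
  · linear_combination (1 / 55 : ℂ) * fb
  · linear_combination (1 / 55 : ℂ) * fc
  · rw [hn1, hn1']; norm_num
  · rw [hn2, hn2']; norm_num
  · linear_combination (1 / 55 : ℂ) * f11
  · linear_combination (1 / 55 : ℂ) * f44
  · linear_combination (1 / 55 : ℂ) * f55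

end Cfsg.Agent.Helper20.U11
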