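-- helper20: the orbital of valency 11 on the cosets of N(P11) in a simple group of order 7920:
-- subdegree, symmetry, value of the orbital class function at involutions.
import Mathlib
import Cfsg.Agent.Helper20.U11.Mult
import Cfsg.Agent.Helper59.M11U4
import Cfsg.Agent.Helper50.M11V34

set_option autoImplicit false
set_option linter.style.haveILetI false
set_option linter.unusedSectionVars false

namespace Cfsg.Agent.Helper20.U11

open Cfsg Subgroup Cfsg.Agent.Helper20.M11
open Cfsg.Agent.Helper12.Orbital Cfsg.Agent.Helper12.PermCharBasics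
open scoped ComplexConjugate
open Classical

universe u v

variable {G : Type u} [Group G] [Fintype G] [IsSimpleGroup G]
  {Ω : Type v} [Fintype Ω] [MulAction G Ω] [MulAction.IsPretransitive G Ω]

/-- There are 144 points. -/
theorem card_omega (h : Nat.card G = 7920) {x : G} (hx : orderOf x = 11) (a : Ω)
    (hstab : MulAction.stabilizer G a = normalizer ((zpowers x : Subgroup G) : Set G)) :
    Fintype.card Ω = 144 := by
  have h1 := MulAction.index_stabilizer_of_transitive G a
  have h2 := Subgroup.card_mul_index (MulAction.stabilizer G a)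
  rw [h1, hstab, card_normalizer11 h hx, h, Nat.card_eq_fintype_card] at h2
  omega

/-- The subdegree is 11. -/
theorem card_orbit_eq (h : Nat.card G = 7920) {x v c : G} (hx : orderOf x = 11)
    (hv : orderOf v = 5) (hc : orderOf c = 4) (hvx : v * x * v⁻¹ = x ^ 3)
    (hcv : c * v * c⁻¹ = v ^ 2) (a : Ω)
    (hstab : MulAction.stabilizer G a = normalizer ((zpowers x : Subgroup G) : Set G)) :
    Nat.card (MulAction.orbit (MulAction.stabilizer G a) (c ^ 2 • a)) = 11 := by
  have hw2 : (c ^ 2)⁻¹ = c ^ 2 := by
    have hc4 : c ^ 4 = 1 := by rw [← hc]; exact pow_orderOf_eq_one c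
    rw [inv_eq_iff_mul_eq_one, ← pow_add]
    exact hc4
  -- the point stabilizer inside the stabilizer of `a`
  have hcard5 : Nat.card (MulAction.stabilizer (MulAction.stabilizer G a) (c ^ 2 • a)) = 5 := by
    have hv5 : Nat.card (zpowers v) = 5 := by rw [Nat.card_zpowers, hv]
    rw [← hv5]
    have key : ∀ k : G, k ∈ MulAction.stabilizer G a →
        (k • (c ^ 2 • a) = c ^ 2 • a ↔ k ∈ zpowers v) := by
      intro k hk
      rw [← Cfsg.Agent.Helper50.M11V34.normalizer11_inf_conj h hx hv hc hvx hcv k (hstab ▸ hk), ← hstab,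
        MulAction.mem_stabilizer_iff, mul_smul, mul_smul, inv_smul_eq_iff]
    have hvstab : ∀ y : G, y ∈ zpowers v → y ∈ MulAction.stabilizer G a := by
      intro y hy
      rw [hstab]
      have hvN : v ∈ normalizer ((zpowers x : Subgroup G) : Set G) := by
        rw [Subgroup.mem_normalizer_iff]
        have hvi : v⁻¹ * x * v⁻¹⁻¹ ∈ zpowers x := by
          -- v⁻¹ = v ^ 4
          have hv5 : v ^ 5 = 1 := by rw [← hv]; exact pow_orderOf_eq_one v
          have : v⁻¹ = v ^ 4 := by
            rw [inv_eq_iff_mul_eq_one, ← pow_succ']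
            exact hv5
          rw [this, conj_pow_eq hvx 4]
          exact Subgroup.pow_mem _ (Subgroup.mem_zpowers x) _
        intro y
        constructor
        · intro hy
          obtain ⟨n, rfl⟩ := Subgroup.mem_zpowers_iff.mp hy
          rw [← conj_zpow, hvx]
          exact Subgroup.zpow_mem _ (Subgroup.pow_mem _ (Subgroup.mem_zpowers x) _) _
        · intro hy
          have : y = v⁻¹ * (v * y * v⁻¹) * v⁻¹⁻¹ := by group
          rw [this]
          obtain ⟨n, hn⟩ := Subgroup.mem_zpowers_iff.mp hy
          rw [← hn, ← conj_zpow]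
          exact Subgroup.zpow_mem _ hvi _
      exact (Subgroup.zpowers_le.mpr hvN) hy
    refine Nat.card_congr ⟨fun k => ⟨((k : ↥(MulAction.stabilizer G a)) : G), ?_⟩,
      fun y => ⟨⟨(y : G), hvstab _ y.2⟩, ?_⟩, ?_, ?_⟩
    · exact (key _ k.1.2).mp k.2
    · exact (key _ (hvstab _ y.2)).mpr y.2
    · intro k; rfl
    · intro y; rfl
  have h1 := MulAction.index_stabilizer (MulAction.stabilizer G a) (c ^ 2 • a)
  have h2 := Subgroup.card_mul_index
    (MulAction.stabilizer (MulAction.stabilizer G a) (c ^ 2 • a))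
  have hB : Nat.card ↥(MulAction.stabilizer G a) = 55 := by
    rw [hstab]; exact card_normalizer11 h hx
  rw [h1, hcard5, hB] at h2
  rw [Nat.card_coe_set_eq]
  omega

theorem sq_sq_eq_one {c : G} (hc : orderOf c = 4) : c ^ 2 * c ^ 2 = 1 := by
  rw [← pow_add]
  have : c ^ 4 = 1 := by rw [← hc]; exact pow_orderOf_eq_one c
  exact this

theorem orderOf_sq {c : G} (hc : orderOf c = 4) : orderOf (c ^ 2) = 2 := by
  rw [orderOf_pow' _ (by norm_num), hc]
  rfl

/-- The involution `c²` does not fix the base point. -/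
theorem sq_smul_ne (h : Nat.card G = 7920) {x c : G} (hx : orderOf x = 11)
    (hc : orderOf c = 4) (a : Ω)
    (hstab : MulAction.stabilizer G a = normalizer ((zpowers x : Subgroup G) : Set G)) :
    c ^ 2 • a ≠ a := by
  intro hfix
  have hmem : c ^ 2 ∈ normalizer ((zpowers x : Subgroup G) : Set G) := by
    rw [← hstab]; exact hfix
  have := orderOf_dvd_natCard (⟨c ^ 2, hmem⟩ : ↥(normalizer ((zpowers x : Subgroup G) : Set G)))
  rw [Subgroup.orderOf_mk, orderOf_sq hc, card_normalizer11 h hx] at this
  norm_num at this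

/-- The orbital is symmetric. -/
theorem orbRel_symm {c : G} (hc : orderOf c = 4) (a : Ω) (y z : Ω)
    (hyz : orbRel G a (c ^ 2 • a) y z) : orbRel G a (c ^ 2 • a) z y := by
  obtain ⟨g, h1, h2⟩ := hyz
  refine ⟨g * c ^ 2, ?_, ?_⟩
  · rw [mul_smul, h2]
  · rw [mul_smul, ← mul_smul (c ^ 2), sq_sq_eq_one hc, one_smul, h1]

/-- The orbital class function takes the value 48 at involutions. -/
theorem theta_involution (h : Nat.card G = 7920) {x v c : G} (hx : orderOf x = 11)
    (hv : orderOf v = 5) (hc : orderOf c = 4) (hvx : v * x * v⁻¹ = x ^ 3)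
    (hcv : c * v * c⁻¹ = v ^ 2) (a : Ω)
    (hstab : MulAction.stabilizer G a = normalizer ((zpowers x : Subgroup G) : Set G))
    {t : G} (ht : orderOf t = 2) :
    (Finset.univ.filter fun y : Ω => orbRel G a (c ^ 2 • a) y (t • y)).card = 48 := by
  set S : Finset G := Finset.univ.filter fun s : G => orderOf s = 2 with hS
  have hSconj : ∀ g s : G, s ∈ S → g * s * g⁻¹ ∈ S := by
    intro g s hs
    simp only [hS, Finset.mem_filter, Finset.mem_univ, true_and] at hs ⊢
    rw [Cfsg.Agent.Helper17.G4320.orderOf_conj', hs]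
  have hsum := Cfsg.Agent.Helper59.M11U4.sum_theta_orbRel (Ω := Ω) a (c ^ 2 • a) S hSconj
  rw [card_omega h hx a hstab, card_orbit_eq h hx hv hc hvx hcv a hstab] at hsum
  -- five involutions map a to b
  have h5 : (S.filter fun s => s • a = c ^ 2 • a).card = 5 := by
    rw [← Cfsg.Agent.Helper4.M11V12.card_invol_coset h hx hv hc hvx hcv, hS, Finset.filter_filter]
    congr 1
    ext s
    simp only [Finset.mem_filter, Finset.mem_univ, true_and]
    rw [← hstab, MulAction.mem_stabilizer_iff, mul_smul, inv_smul_eq_iff]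
  rw [h5] at hsum
  -- all terms are equal
  have hconst : ∀ s ∈ S, (Finset.univ.filter fun y : Ω => orbRel G a (c ^ 2 • a) y (s • y)).card
      = (Finset.univ.filter fun y : Ω => orbRel G a (c ^ 2 • a) y (t • y)).card := by
    intro s hs
    simp only [hS, Finset.mem_filter, Finset.mem_univ, true_and] at hs
    obtain ⟨g, hg⟩ := isConj_iff.mp (isConj_of_order2 h ht hs)
    have hcl := theta_isClassFunction G (orbRel G a (c ^ 2 • a))
      (fun g y z => orbRel_smul a (c ^ 2 • a) g y z) t g
    unfold theta at hcl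
    rw [hg] at hcl
    exact_mod_cast hcl
  rw [Finset.sum_congr rfl hconst, Finset.sum_const, smul_eq_mul] at hsum
  have hScard : S.card = 165 := by
    rw [hS, ← card_involutions h, Nat.card_eq_fintype_card, Fintype.card_subtype]
  rw [hScard] at hsum
  omega

end Cfsg.Agent.Helper20.U11
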