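-- helper20: the orbital of valency 11 on the cosets of N(P11) in a simple group of order 7920:
-- the scalars by which the adjacency operator acts on the constituents.
import Mathlib
import Cfsg.Agent.Helper20.U11.Theta1
import Cfsg.Agent.Helper20.U11.InvCol
import Cfsg.Agent.Helper54.OrbU2
import Cfsg.Agent.Helper34.M11Solve

set_option autoImplicit false
set_option linter.style.haveILetI false
set_option linter.unusedSectionVars false

namespace Cfsg.Agent.Helper20.U11

open Cfsg Subgroup Cfsg.Agent.Helper20.M11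
open Cfsg.Agent.Helper12.Orbital Cfsg.Agent.Helper12.PermCharBasics
open scoped ComplexConjugate
open Classical

universe u v

variable {G : Type u} [Group G] [Fintype G] [Fintype (IrrCharacter G)] [IsSimpleGroup G]
  {Ω : Type v} [Fintype Ω] [MulAction G Ω] [MulAction.IsPretransitive G Ω]

/-- The orbital class function vanishes at the identity. -/
theorem theta_one (h : Nat.card G = 7920) {x c : G} (hx : orderOf x = 11)
    (hc : orderOf c = 4) (a : Ω)
    (hstab : MulAction.stabilizer G a = normalizer ((zpowers x : Subgroup G) : Set G)) :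
    theta (G := G) (orbRel G a (c ^ 2 • a)) 1 = 0 := by
  unfold theta
  rw [Nat.cast_eq_zero, Finset.card_eq_zero, Finset.filter_eq_empty_iff]
  intro y _
  rw [one_smul]
  exact orbRel_irrefl (sq_smul_ne h hx hc a hstab) y

/-- The orbital class function is invariant under inversion. -/
theorem theta_inv {c : G} (hc : orderOf c = 4) (a : Ω) (g : G) :
    theta (G := G) (orbRel G a (c ^ 2 • a)) g⁻¹ = theta (G := G) (orbRel G a (c ^ 2 • a)) g := by
  unfold theta
  congr 1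
  refine Finset.card_bij (fun x _ => g⁻¹ • x) ?_ ?_ ?_
  · intro x hx
    simp only [Finset.mem_filter, Finset.mem_univ, true_and] at hx ⊢
    rw [smul_inv_smul]
    exact orbRel_symm hc a _ _ hx
  · intro x _ y _ hxy
    exact smul_left_cancel _ hxy
  · intro y hy
    simp only [Finset.mem_filter, Finset.mem_univ, true_and] at hy
    refine ⟨g • y, ?_, by simp⟩
    simp only [Finset.mem_filter, Finset.mem_univ, true_and]
    rw [inv_smul_smul]
    exact orbRel_symm hc a _ _ hy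

/-- The scalars are real. -/
theorem conj_classInner_theta {c : G} (hc : orderOf c = 4) (a : Ω) {χ : G → ℂ}
    (hχ : IsCharacter G χ) :
    conj (classInner (theta (G := G) (orbRel G a (c ^ 2 • a))) χ) =
      classInner (theta (G := G) (orbRel G a (c ^ 2 • a))) χ := by
  unfold classInner
  rw [map_mul, map_inv₀, Complex.conj_natCast, map_sum]
  congr 1
  rw [← Equiv.sum_comp (Equiv.inv G)
    (fun g => theta (G := G) (orbRel G a (c ^ 2 • a)) g * conj (χ g))]
  refine Finset.sum_congr rfl fun g _ => ?_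
  rw [map_mul, Complex.conj_conj, Equiv.inv_apply, theta_inv hc a g, Helper74.char_inv hχ g,
    Complex.conj_conj]
  congr 1
  unfold theta
  rw [Complex.conj_natCast]

/-- If `χ` is integer valued then the scalar is an integer. -/
theorem int_classInner_theta_of_int {c : G} (a : Ω) {χ : G → ℂ} (hirr : IsIrrCharacter G χ)
    (hint : ∀ g, ∃ n : ℤ, χ g = n) :
    ∃ n : ℤ, classInner (theta (G := G) (orbRel G a (c ^ 2 • a))) χ = n := by
  choose m hm using hint
  refine exists_int_of_rat_of_isIntegral ((Nat.card G : ℚ)⁻¹ * ∑ g : G,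
    ((Finset.univ.filter fun x => orbRel G a (c ^ 2 • a) x (g • x)).card : ℚ) * (m g : ℚ)) ?_
    (isIntegral_classInner_theta _ (fun g y z => orbRel_smul a (c ^ 2 • a) g y z) hirr)
  unfold classInner theta
  push_cast
  congr 1
  refine Finset.sum_congr rfl fun g _ => ?_
  rw [hm g, map_intCast]

/-- If `χ₁ + χ₂` is integer valued then the sum of the scalars is an integer. -/
theorem int_classInner_theta_pair {c : G} (a : Ω) {χ₁ χ₂ : G → ℂ} (h1 : IsIrrCharacter G χ₁)
    (h2 : IsIrrCharacter G χ₂) (hint : ∀ g, ∃ n : ℤ, χ₁ g + χ₂ g = n) :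
    ∃ n : ℤ, classInner (theta (G := G) (orbRel G a (c ^ 2 • a))) χ₁ +
      classInner (theta (G := G) (orbRel G a (c ^ 2 • a))) χ₂ = n := by
  choose m hm using hint
  refine exists_int_of_rat_of_isIntegral ((Nat.card G : ℚ)⁻¹ * ∑ g : G,
    ((Finset.univ.filter fun x => orbRel G a (c ^ 2 • a) x (g • x)).card : ℚ) * (m g : ℚ)) ?_
    (IsIntegral.add
      (isIntegral_classInner_theta _ (fun g y z => orbRel_smul a (c ^ 2 • a) g y z) h1)
      (isIntegral_classInner_theta _ (fun g y z => orbRel_smul a (c ^ 2 • a) g y z) h2))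
  unfold classInner theta
  rw [← mul_add, ← Finset.sum_add_distrib]
  push_cast
  congr 1
  refine Finset.sum_congr rfl fun g _ => ?_
  rw [← mul_add, ← map_add, hm g, map_intCast]

theorem ne_of_degree_ne {χ χ' : IrrCharacter G}
    (h : charDegree (χ : G → ℂ) ≠ charDegree (χ' : G → ℂ)) : χ ≠ χ' :=
  fun e => h (e ▸ rfl)

theorem eq_of_degree45 (T : Tab G) (χ : IrrCharacter G) (hχ : charDegree (χ : G → ℂ) = 45) :
    χ = T.ψ45 := by
  have hd1 : charDegree ((Helper79.principalIrr G : IrrCharacter G) : G → ℂ) = 1 :=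
    Cfsg.Agent.Helper17.Exc.charDegree_principal
  rcases irr_cases T χ with rfl | rfl | rfl | rfl | rfl | rfl | rfl | rfl | rfl | rfl
  · rw [hd1] at hχ; omega
  · rfl
  · rw [T.hda] at hχ; omega
  · rw [T.hdb] at hχ; omega
  · rw [T.hdc] at hχ; omega
  · rw [T.hdΛ1] at hχ; omega
  · rw [T.hdΛ2] at hχ; omega
  · rw [T.hd11] at hχ; omega
  · rw [T.hd44] at hχ; omega
  · rw [T.hd55] at hχ; omega

theorem eq_of_degree11 (T : Tab G) (χ : IrrCharacter G) (hχ : charDegree (χ : G → ℂ) = 11) :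
    χ = T.χ11 := by
  have hd1 : charDegree ((Helper79.principalIrr G : IrrCharacter G) : G → ℂ) = 1 :=
    Cfsg.Agent.Helper17.Exc.charDegree_principal
  rcases irr_cases T χ with rfl | rfl | rfl | rfl | rfl | rfl | rfl | rfl | rfl | rfl
  · rw [hd1] at hχ; omega
  · rw [T.hd45] at hχ; omega
  · rw [T.hda] at hχ; omega
  · rw [T.hdb] at hχ; omega
  · rw [T.hdc] at hχ; omega
  · rw [T.hdΛ1] at hχ; omega
  · rw [T.hdΛ2] at hχ; omega
  · rfl
  · rw [T.hd44] at hχ; omega
  · rw [T.hd55] at hχ; omega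

theorem eq_of_degree55 (T : Tab G) (χ : IrrCharacter G) (hχ : charDegree (χ : G → ℂ) = 55) :
    χ = T.χ55 := by
  have hd1 : charDegree ((Helper79.principalIrr G : IrrCharacter G) : G → ℂ) = 1 :=
    Cfsg.Agent.Helper17.Exc.charDegree_principal
  rcases irr_cases T χ with rfl | rfl | rfl | rfl | rfl | rfl | rfl | rfl | rfl | rfl
  · rw [hd1] at hχ; omega
  · rw [T.hd45] at hχ; omega
  · rw [T.hda] at hχ; omega
  · rw [T.hdb] at hχ; omega
  · rw [T.hdc] at hχ; omega
  · rw [T.hdΛ1] at hχ; omega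
  · rw [T.hdΛ2] at hχ; omega
  · rw [T.hd11] at hχ; omega
  · rw [T.hd44] at hχ; omega
  · rfl

theorem eq_of_degree16 (T : Tab G) (χ : IrrCharacter G) (hχ : charDegree (χ : G → ℂ) = 16) :
    χ = T.Λ1 ∨ χ = T.Λ2 := by
  have hd1 : charDegree ((Helper79.principalIrr G : IrrCharacter G) : G → ℂ) = 1 :=
    Cfsg.Agent.Helper17.Exc.charDegree_principal
  rcases irr_cases T χ with rfl | rfl | rfl | rfl | rfl | rfl | rfl | rfl | rfl | rfl
  · rw [hd1] at hχ; omega
  · rw [T.hd45] at hχ; omega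
  · rw [T.hda] at hχ; omega
  · rw [T.hdb] at hχ; omega
  · rw [T.hdc] at hχ; omega
  · exact Or.inl rfl
  · exact Or.inr rfl
  · rw [T.hd11] at hχ; omega
  · rw [T.hd44] at hχ; omega
  · rw [T.hd55] at hχ; omega

/-- The two characters of degree 16 are different. -/
theorem Λ_ne (T : Tab G) : T.Λ1 ≠ T.Λ2 := by
  intro heq
  have hd1 : charDegree ((Helper79.principalIrr G : IrrCharacter G) : G → ℂ) = 1 :=
    Cfsg.Agent.Helper17.Exc.charDegree_principal
  have hs := T.hsum (fun χ => if χ = T.Λ1 then 1 else 0)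
  rw [Finset.sum_ite_eq' Finset.univ T.Λ1, if_pos (Finset.mem_univ _)] at hs
  have n1 : Helper79.principalIrr G ≠ T.Λ1 := ne_of_degree_ne (by rw [hd1, T.hdΛ1]; omega)
  have n2 : T.ψ45 ≠ T.Λ1 := ne_of_degree_ne (by rw [T.hd45, T.hdΛ1]; omega)
  have n3 : T.ψa ≠ T.Λ1 := ne_of_degree_ne (by rw [T.hda, T.hdΛ1]; omega)
  have n4 : T.ψb ≠ T.Λ1 := ne_of_degree_ne (by rw [T.hdb, T.hdΛ1]; omega)
  have n5 : T.ψc ≠ T.Λ1 := ne_of_degree_ne (by rw [T.hdc, T.hdΛ1]; omega)
  have n6 : T.χ11 ≠ T.Λ1 := ne_of_degree_ne (by rw [T.hd11, T.hdΛ1]; omega)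
  have n7 : T.χ44 ≠ T.Λ1 := ne_of_degree_ne (by rw [T.hd44, T.hdΛ1]; omega)
  have n8 : T.χ55 ≠ T.Λ1 := ne_of_degree_ne (by rw [T.hd55, T.hdΛ1]; omega)
  rw [if_neg n1, if_neg n2, if_neg n3, if_neg n4, if_neg n5, if_pos rfl, if_pos heq.symm,
    if_neg n6, if_neg n7, if_neg n8] at hs
  norm_num at hs

theorem int_ψ45 (T : Tab G) (g : G) : ∃ n : ℤ, (T.ψ45 : G → ℂ) g = n :=
  int_valued_of_unique T.ψ45 (fun χ' h' => eq_of_degree45 T χ' (h'.trans T.hd45)) g

theorem int_χ11 (T : Tab G) (g : G) : ∃ n : ℤ, (T.χ11 : G → ℂ) g = n :=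
  int_valued_of_unique T.χ11 (fun χ' h' => eq_of_degree11 T χ' (h'.trans T.hd11)) g

theorem int_χ55 (T : Tab G) (g : G) : ∃ n : ℤ, (T.χ55 : G → ℂ) g = n :=
  int_valued_of_unique T.χ55 (fun χ' h' => eq_of_degree55 T χ' (h'.trans T.hd55)) g

theorem int_Λ (T : Tab G) (g : G) : ∃ n : ℤ, (T.Λ1 : G → ℂ) g + (T.Λ2 : G → ℂ) g = n :=
  int_valued_of_pair T.Λ1 T.Λ2 (by rw [T.hdΛ1, T.hdΛ2])
    (fun χ' h' => eq_of_degree16 T χ' (h'.trans T.hdΛ1)) (Λ_ne T) g

/-- The number of edges of the orbital graph. -/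
theorem card_pairs (h : Nat.card G = 7920) {x v c : G} (hx : orderOf x = 11)
    (hv : orderOf v = 5) (hc : orderOf c = 4) (hvx : v * x * v⁻¹ = x ^ 3)
    (hcv : c * v * c⁻¹ = v ^ 2) (a : Ω)
    (hstab : MulAction.stabilizer G a = normalizer ((zpowers x : Subgroup G) : Set G))
    [DecidablePred fun p : Ω × Ω => orbRel G a (c ^ 2 • a) p.1 p.2 ∧
      orbRel G a (c ^ 2 • a) p.2 p.1] :
    (Finset.univ.filter fun p : Ω × Ω => orbRel G a (c ^ 2 • a) p.1 p.2 ∧
      orbRel G a (c ^ 2 • a) p.2 p.1).card = 1584 := by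
  have h1 : (Finset.univ.filter fun p : Ω × Ω => orbRel G a (c ^ 2 • a) p.1 p.2 ∧
      orbRel G a (c ^ 2 • a) p.2 p.1) =
      Finset.univ.filter fun p : Ω × Ω => orbRel G a (c ^ 2 • a) p.1 p.2 := by
    ext p
    simp only [Finset.mem_filter, Finset.mem_univ, true_and]
    exact ⟨fun h' => h'.1, fun h' => ⟨h', orbRel_symm hc a _ _ h'⟩⟩
  rw [h1, Finset.card_filter, Fintype.sum_prod_type]
  have h2 : ∀ y : Ω, (∑ z : Ω, if orbRel G a (c ^ 2 • a) y z then 1 else 0) = 11 := by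
    intro y
    rw [← Finset.card_filter, card_orbRel_row, card_orbit_eq h hx hv hc hvx hcv a hstab]
  rw [Finset.sum_congr rfl (fun y _ => h2 y), Finset.sum_const, Finset.card_univ,
    card_omega h hx a hstab]
  rfl

set_option maxHeartbeats 3200000 in
/-- The scalars by which the adjacency operator acts on the constituents of the permutation
character. -/
theorem scalars (h : Nat.card G = 7920) (T : Tab G) {v c : G}
    (hv : orderOf v = 5) (hc : orderOf c = 4) (hvx : v * T.x * v⁻¹ = T.x ^ 3)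
    (hcv : c * v * c⁻¹ = v ^ 2) (a : Ω)
    (hstab : MulAction.stabilizer G a = normalizer ((zpowers T.x : Subgroup G) : Set G)) :
    classInner (theta (G := G) (orbRel G a (c ^ 2 • a)))
      ((Helper79.principalIrr G : IrrCharacter G) : G → ℂ) = 11 ∧
    classInner (theta (G := G) (orbRel G a (c ^ 2 • a))) (T.ψ45 : G → ℂ) = -1 ∧
    classInner (theta (G := G) (orbRel G a (c ^ 2 • a))) (T.Λ1 : G → ℂ) = -1 ∧
    classInner (theta (G := G) (orbRel G a (c ^ 2 • a))) (T.Λ2 : G → ℂ) = -1 ∧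
    classInner (theta (G := G) (orbRel G a (c ^ 2 • a))) (T.χ11 : G → ℂ) = 11 ∧
    classInner (theta (G := G) (orbRel G a (c ^ 2 • a))) (T.χ55 : G → ℂ) = -1 := by
  have hR : ∀ (g : G) y z, orbRel G a (c ^ 2 • a) (g • y) (g • z) ↔
      orbRel G a (c ^ 2 • a) y z := fun g y z => orbRel_smul a (c ^ 2 • a) g y z
  obtain ⟨m1, m45, ma, mb, mc, mΛ1, mΛ2, m11, m44, m55⟩ := mults (Ω := Ω) h T hv hvx a hstab
  set θ := theta (G := G) (orbRel G a (c ^ 2 • a)) with hθ
  -- the vanishing scalars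
  have za : classInner θ (T.ψa : G → ℂ) = 0 := classInner_theta_eq_zero _ hR T.ψa.2 ma
  have zb : classInner θ (T.ψb : G → ℂ) = 0 := classInner_theta_eq_zero _ hR T.ψb.2 mb
  have zc : classInner θ (T.ψc : G → ℂ) = 0 := classInner_theta_eq_zero _ hR T.ψc.2 mc
  have z44 : classInner θ (T.χ44 : G → ℂ) = 0 := classInner_theta_eq_zero _ hR T.χ44.2 m44
  -- the principal character
  have e1 : classInner θ ((Helper79.principalIrr G : IrrCharacter G) : G → ℂ) = 11 := by
    have := classInner_theta_one (G := G) a (c ^ 2 • a)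
    rw [card_orbit_eq h T.hx hv hc hvx hcv a hstab] at this
    exact_mod_cast this
  have hprinc : ∀ y : G, ((Helper79.principalIrr G : IrrCharacter G) : G → ℂ) y = 1 :=
    fun _ => rfl
  have hone : ∀ χ : IrrCharacter G, (χ : G → ℂ) 1 = (charDegree (χ : G → ℂ) : ℂ) :=
    fun χ => Helper78.irrChar_one_eq_charDegree χ.2
  -- the expansion of θ
  have hexp : ∀ g : G, θ g = classInner θ ((Helper79.principalIrr G : IrrCharacter G) : G → ℂ)
      + classInner θ (T.ψ45 : G → ℂ) * (T.ψ45 : G → ℂ) g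
      + classInner θ (T.Λ1 : G → ℂ) * (T.Λ1 : G → ℂ) g
      + classInner θ (T.Λ2 : G → ℂ) * (T.Λ2 : G → ℂ) g
      + classInner θ (T.χ11 : G → ℂ) * (T.χ11 : G → ℂ) g
      + classInner θ (T.χ55 : G → ℂ) * (T.χ55 : G → ℂ) g := by
    intro g
    have h1 := congrFun (Helper74.classFunction_eq_sum_irr
      (theta_isClassFunction G (orbRel G a (c ^ 2 • a)) hR)) g
    rw [Finset.sum_apply] at h1
    simp only [Pi.smul_apply, smul_eq_mul] at h1
    rw [T.hsum (fun ψ => classInner θ (ψ : G → ℂ) * (ψ : G → ℂ) g)] at h1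
    rw [za, zb, zc, z44, hprinc] at h1
    exact h1.trans (by ring)
  -- integrality and reality
  obtain ⟨A, hA⟩ := int_classInner_theta_of_int (c := c) a T.ψ45.2 (int_ψ45 T)
  obtain ⟨C, hC⟩ := int_classInner_theta_of_int (c := c) a T.χ11.2 (int_χ11 T)
  obtain ⟨D, hD⟩ := int_classInner_theta_of_int (c := c) a T.χ55.2 (int_χ55 T)
  obtain ⟨S, hS⟩ := int_classInner_theta_pair (c := c) a T.Λ1.2 T.Λ2.2 (int_Λ T)
  have r1 := conj_classInner_theta hc a (Helper74.irr_isCharacter T.Λ1)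
  have r2 := conj_classInner_theta hc a (Helper74.irr_isCharacter T.Λ2)
  rw [← hθ] at hA hC hD hS r1 r2
  obtain ⟨b, hb⟩ : ∃ b : ℝ, classInner θ (T.Λ1 : G → ℂ) = b :=
    ⟨_, (Complex.conj_eq_iff_real.mp r1).choose_spec⟩
  obtain ⟨b', hb'⟩ : ∃ b : ℝ, classInner θ (T.Λ2 : G → ℂ) = b :=
    ⟨_, (Complex.conj_eq_iff_real.mp r2).choose_spec⟩
  -- E1
  have E1 := hexp 1
  rw [hθ, theta_one h T.hx hc a hstab, ← hθ, hone, hone, hone, hone, hone, T.hd45, T.hdΛ1,
    T.hdΛ2, T.hd11, T.hd55, e1, hA, hC, hD, hb, hb'] at E1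
  -- E2
  have ht : orderOf (c ^ 2) = 2 := orderOf_sq hc
  obtain ⟨b1, b2, b3, -, -, -, -, -, i45, iΛ1, iΛ2, i11, -, i55⟩ := involution_column h T ht
  have E2 := hexp (c ^ 2)
  have hθt : θ (c ^ 2) = 48 := by
    rw [hθ]
    unfold theta
    rw [theta_involution h T.hx hv hc hvx hcv a hstab ht]
    norm_num
  rw [hθt, i45, iΛ1, iΛ2, i11, i55, e1, hA, hC, hD] at E2
  -- E6
  have hmf : ∀ χ : IrrCharacter G, classInner (permChar G Ω) (χ : G → ℂ) = 0 ∨
      classInner (permChar G Ω) (χ : G → ℂ) = 1 := by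
    intro χ
    rcases irr_cases T χ with rfl | rfl | rfl | rfl | rfl | rfl | rfl | rfl | rfl | rfl
    · exact Or.inr m1
    · exact Or.inr m45
    · exact Or.inl ma
    · exact Or.inl mb
    · exact Or.inl mc
    · exact Or.inr mΛ1
    · exact Or.inr mΛ2
    · exact Or.inr m11
    · exact Or.inl m44
    · exact Or.inr m55
  have E6 := Cfsg.Agent.Helper54.OrbU.sum_deg_mul_theta_sq (G := G)
    (orbRel G a (c ^ 2 • a)) hR hmf
  rw [card_pairs h T.hx hv hc hvx hcv a hstab,
    T.hsum (fun χ => (χ : G → ℂ) 1 * classInner (theta (G := G) (orbRel G a (c ^ 2 • a)))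
      (χ : G → ℂ) ^ 2), ← hθ, za, zb, zc, z44, e1, hA, hC, hD, hb, hb',
    hone, hone, hone, hone, hone, hone, hone, hone, hone, hone, T.hd45, T.hdΛ1,
    T.hdΛ2, T.hd11, T.hd55, Cfsg.Agent.Helper17.Exc.charDegree_principal] at E6
  -- solve
  have hs : b + b' = (S : ℝ) := by
    rw [hb, hb'] at hS
    exact_mod_cast hS
  have E1' : 11 + 45 * A + 16 * S + 11 * C + 55 * D = 0 := by
    have : ((11 + 45 * A + 16 * S + 11 * C + 55 * D : ℤ) : ℂ) = ((0 : ℤ) : ℂ) := by
      push_cast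
      rw [← hS, hb, hb']
      linear_combination -E1
    exact_mod_cast this
  have E2' : 11 - 3 * A + 3 * C - D = 48 := by
    have : ((11 - 3 * A + 3 * C - D : ℤ) : ℂ) = ((48 : ℤ) : ℂ) := by
      push_cast
      linear_combination -E2
    exact_mod_cast this
  have E6' : 121 + 45 * (A : ℝ) ^ 2 + 16 * (b ^ 2 + b' ^ 2) + 11 * (C : ℝ) ^ 2
      + 55 * (D : ℝ) ^ 2 = 1584 := by
    have : ((121 + 45 * (A : ℝ) ^ 2 + 16 * (b ^ 2 + b' ^ 2) + 11 * (C : ℝ) ^ 2
        + 55 * (D : ℝ) ^ 2 : ℝ) : ℂ) = ((1584 : ℝ) : ℂ) := by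
      push_cast
      push_cast at E6
      linear_combination E6
    exact_mod_cast this
  obtain ⟨rA, rb, rb', rC, rD⟩ :=
    Cfsg.Agent.Helper34.M11Solve.solve_scalars A C D S b b' hs E1' E2' E6'
  refine ⟨e1, ?_, ?_, ?_, ?_, ?_⟩
  · rw [hA, rA]; norm_num
  · rw [hb, rb]; norm_num
  · rw [hb', rb']; norm_num
  · rw [hC, rC]; norm_num
  · rw [hD, rD]; norm_num

end Cfsg.Agent.Helper20.U11
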