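-- helper20: a simple group of order 7920 has a subgroup of index 12 (order 660) containing the
-- normalizer of a Sylow 11-subgroup.
import Mathlib
import Cfsg.Agent.Helper20.U11.Theta2
import Cfsg.Agent.Helper54.OrbU1

set_option autoImplicit false
set_option linter.style.haveILetI false
set_option linter.unusedSectionVars false

namespace Cfsg.Agent.Helper20.U11

open Cfsg Subgroup Cfsg.Agent.Helper20.M11 Module LinearMap
open Cfsg.Agent.Helper12.Orbital Cfsg.Agent.Helper12.PermCharBasics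
open scoped ComplexConjugate
open Classical

universe u v

section generic

variable {G : Type u} [Group G] [Fintype G] [Fintype (IrrCharacter G)] [IsSimpleGroup G]
  {Ω : Type v} [Fintype Ω] [MulAction G Ω] [MulAction.IsPretransitive G Ω]

set_option maxHeartbeats 1600000 in
/-- The adjacency operator of the orbital satisfies `A² = 10 A + 11`. -/
theorem adj_sq (h : Nat.card G = 7920) (T : Tab G) {v c : G}
    (hv : orderOf v = 5) (hc : orderOf c = 4) (hvx : v * T.x * v⁻¹ = T.x ^ 3)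
    (hcv : c * v * c⁻¹ = v ^ 2) (a : Ω)
    (hstab : MulAction.stabilizer G a = normalizer ((zpowers T.x : Subgroup G) : Set G)) :
    adj (orbRel G a (c ^ 2 • a)) ∘ₗ adj (orbRel G a (c ^ 2 • a)) =
      (((11 : ℕ) : ℂ) - 1) • adj (orbRel G a (c ^ 2 • a)) +
        ((11 : ℕ) : ℂ) • (LinearMap.id : (Ω → ℂ) →ₗ[ℂ] (Ω → ℂ)) := by
  have hR : ∀ (g : G) y z, orbRel G a (c ^ 2 • a) (g • y) (g • z) ↔
      orbRel G a (c ^ 2 • a) y z := fun g y z => orbRel_smul a (c ^ 2 • a) g y z
  obtain ⟨e1, e45, eΛ1, eΛ2, e11, e55⟩ := scalars h T hv hc hvx hcv a hstab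
  obtain ⟨m1, m45, ma, mb, mc, mΛ1, mΛ2, m11, m44, m55⟩ := mults (Ω := Ω) h T hv hvx a hstab
  have key := Cfsg.Agent.Helper54.OrbU.adj_comp_adj_eq (G := G) (orbRel G a (c ^ 2 • a)) hR
    10 11 ?_
  · rw [key]
    norm_num
  intro χ hχ hne
  rcases irr_cases T ⟨χ, hχ⟩ with e | e | e | e | e | e | e | e | e | e
  · have hχe : χ = ((Helper79.principalIrr G : IrrCharacter G) : G → ℂ) := congrArg Subtype.val e
    subst hχe
    exact ⟨m1, by rw [e1]; norm_num⟩
  · have hχe : χ = (T.ψ45 : G → ℂ) := congrArg Subtype.val e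
    subst hχe
    exact ⟨m45, by rw [e45]; norm_num⟩
  · have hχe : χ = (T.ψa : G → ℂ) := congrArg Subtype.val e
    subst hχe
    exact absurd ma hne
  · have hχe : χ = (T.ψb : G → ℂ) := congrArg Subtype.val e
    subst hχe
    exact absurd mb hne
  · have hχe : χ = (T.ψc : G → ℂ) := congrArg Subtype.val e
    subst hχe
    exact absurd mc hne
  · have hχe : χ = (T.Λ1 : G → ℂ) := congrArg Subtype.val e
    subst hχe
    exact ⟨mΛ1, by rw [eΛ1]; norm_num⟩
  · have hχe : χ = (T.Λ2 : G → ℂ) := congrArg Subtype.val e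
    subst hχe
    exact ⟨mΛ2, by rw [eΛ2]; norm_num⟩
  · have hχe : χ = (T.χ11 : G → ℂ) := congrArg Subtype.val e
    subst hχe
    exact ⟨m11, by rw [e11]; norm_num⟩
  · have hχe : χ = (T.χ44 : G → ℂ) := congrArg Subtype.val e
    subst hχe
    exact absurd m44 hne
  · have hχe : χ = (T.χ55 : G → ℂ) := congrArg Subtype.val e
    subst hχe
    exact ⟨m55, by rw [e55]; norm_num⟩

/-- The subgroup of order 660. -/
theorem exists_L (h : Nat.card G = 7920) (T : Tab G) {v c : G}
    (hv : orderOf v = 5) (hc : orderOf c = 4) (hvx : v * T.x * v⁻¹ = T.x ^ 3)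
    (hcv : c * v * c⁻¹ = v ^ 2) (a : Ω)
    (hstab : MulAction.stabilizer G a = normalizer ((zpowers T.x : Subgroup G) : Set G)) :
    ∃ L : Subgroup G, Nat.card L = 660 ∧ T.x ∈ L ∧ v ∈ L ∧ c ^ 2 ∈ L ∧ c ∉ L := by
  have hR : ∀ (g : G) y z, orbRel G a (c ^ 2 • a) (g • y) (g • z) ↔
      orbRel G a (c ^ 2 • a) y z := fun g y z => orbRel_smul a (c ^ 2 • a) g y z
  have hk : ∀ y : Ω, (Finset.univ.filter fun z => orbRel G a (c ^ 2 • a) y z).card = 11 := by
    intro y
    rw [card_orbRel_row, card_orbit_eq h T.hx hv hc hvx hcv a hstab]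
  obtain ⟨L, hL, hcard⟩ := Cfsg.Agent.Helper63.M11U35.exists_subgroup_of_adj_sq (G := G) a
    (orbRel G a (c ^ 2 • a)) hR (orbRel_symm hc a)
    (orbRel_irrefl (sq_smul_ne h T.hx hc a hstab)) 11 hk (adj_sq h T hv hc hvx hcv a hstab)
  obtain ⟨hcB, hcBB⟩ := Cfsg.Agent.Helper50.M11V34.c_not_mem_double_coset h T.hx hv hc hvx hcv
  refine ⟨L, ?_, ?_, ?_, ?_, ?_⟩
  · rw [hcard, hstab, card_normalizer11 h T.hx]
  · rw [hL]
    left
    have := Cfsg.Agent.Helper4.M11V12.x_mem T.x
    rw [← hstab] at this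
    exact this
  · rw [hL]
    left
    have := Cfsg.Agent.Helper4.M11V12.v_mem hv hvx
    rw [← hstab] at this
    exact this
  · rw [hL]
    right
    exact ⟨1, one_smul _ _, one_smul _ _⟩
  · rw [hL]
    rintro (h1 | ⟨g, h1, h2⟩)
    · apply hcB
      rw [← hstab]
      exact h1
    · have hg : g ∈ normalizer ((zpowers T.x : Subgroup G) : Set G) := by
        rw [← hstab]; exact h1
      have hb : c⁻¹ * g * c ^ 2 ∈ normalizer ((zpowers T.x : Subgroup G) : Set G) := by
        rw [← hstab, MulAction.mem_stabilizer_iff, mul_smul, mul_smul, h2, inv_smul_smul]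
      refine hcBB g hg (c⁻¹ * g * c ^ 2)⁻¹ (Subgroup.inv_mem _ hb) ?_
      group

end generic

/-- A simple group of order 7920 has a subgroup `L` of order 660, together with elements
`x` (order 11), `v` (order 5), `c` (order 4) in standard position. -/
theorem exists_index12 {G : Type u} [Group G] [Finite G] [IsSimpleGroup G]
    (h : Nat.card G = 7920) :
    ∃ (x v c : G) (L : Subgroup G), orderOf x = 11 ∧ orderOf v = 5 ∧ orderOf c = 4 ∧
      v * x * v⁻¹ = x ^ 3 ∧ c * v * c⁻¹ = v ^ 2 ∧ Nat.card L = 660 ∧ x ∈ L ∧ v ∈ L ∧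
      c ^ 2 ∈ L ∧ c ∉ L := by
  let _ := Fintype.ofFinite G
  let _ := Helper74.irrFintype G
  obtain ⟨T⟩ := exists_tab h
  obtain ⟨v, hv, hvx⟩ := exists_v h T.hx
  obtain ⟨c, hc, hcv⟩ := exists_c h hv
  let _ : Fintype (G ⧸ normalizer ((zpowers T.x : Subgroup G) : Set G)) := Fintype.ofFinite _
  have hstab : MulAction.stabilizer G
      (((1 : G) : G ⧸ normalizer ((zpowers T.x : Subgroup G) : Set G))) =
      normalizer ((zpowers T.x : Subgroup G) : Set G) := MulAction.stabilizer_quotient _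
  obtain ⟨L, h1, h2, h3, h4, h5⟩ :=
    exists_L (Ω := G ⧸ normalizer ((zpowers T.x : Subgroup G) : Set G)) h T hv hc hvx hcv _ hstab
  exact ⟨T.x, v, c, L, T.hx, hv, hc, hvx, hcv, h1, h2, h3, h4, h5⟩

end Cfsg.Agent.Helper20.U11
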