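-- helper20: a simple group of order 7920 is isomorphic to the stabiliser in M24 of a dodecad
-- and one of its points.
import Mathlib
import Cfsg.Agent.Helper20.U11.Index12
import Cfsg.Agent.Helper20.U11.Cand
import Cfsg.Agent.Helper59.M11B1
import Cfsg.Agent.Helper7.M12Trans
import Cfsg.Agent.Helper34.M11Gen
import Cfsg.Agent.Helper22.M11Conc

set_option autoImplicit false

namespace Cfsg.Agent.Helper20.U11

open Cfsg Subgroup

universe u

/-- A simple group of order 7920 is isomorphic to the concrete `M11`. -/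
theorem nonempty_mulEquiv_fixG {G : Type u} [Group G] [Finite G] [IsSimpleGroup G]
    (h : Nat.card G = 7920) :
    Nonempty (G ≃* ↥(Cfsg.Agent.Helper7.fixG Cfsg.Agent.Helper7.M12 [0])) := by
  obtain ⟨x, v, c, L, hx, hv, hc, hvx, hcv, hL, hxL, hvL, hc2L, hcL⟩ := exists_index12 h
  obtain ⟨ρ, hρ, hρx, hρv, hρc1, hρc2⟩ :=
    Cfsg.Agent.Helper59.M11B1.exists_perm_rep h hx hv hc hvx hcv L hL hxL hvL hc2L hcL
  obtain ⟨r, r2, hr, hρc⟩ := cand_classify h hcv ρ hρ hρx hρv hρc1 hρc2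
  obtain ⟨σ, hσ, ⟨gx, hgx⟩, ⟨gv, hgv⟩, ⟨gc, hgc⟩⟩ := Cfsg.Agent.Helper22.M11Conc.exists_conc_rep r r2 hr
  have hgen := Cfsg.Agent.Helper34.M11Gen.closure_eq_top h hx hv hc hvx
  have hle : ρ.range ≤ σ.range := by
    rw [MonoidHom.range_eq_map, ← hgen, MonoidHom.map_closure, Subgroup.closure_le]
    rintro _ ⟨y, hy, rfl⟩
    rcases hy with rfl | rfl | rfl
    · exact ⟨gx, Equiv.ext fun p => (hgx p).trans (hρx p).symm⟩
    · exact ⟨gv, Equiv.ext fun p => (hgv p).trans (hρv p).symm⟩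
    · exact ⟨gc, Equiv.ext fun p => (hgc p).trans (hρc p).symm⟩
  have hcardρ : Nat.card ρ.range = 7920 := by
    rw [← Nat.card_congr (MonoidHom.ofInjective hρ).toEquiv, h]
  have hcardσ : Nat.card σ.range = 7920 := by
    rw [← Nat.card_congr (MonoidHom.ofInjective hσ).toEquiv]
    exact Cfsg.Agent.Helper7.card_fixG_m12_1
  have heq : ρ.range = σ.range :=
    Subgroup.eq_of_le_of_card_ge hle (by rw [hcardρ, hcardσ])
  exact ⟨(MonoidHom.ofInjective hρ).trans
    ((MulEquiv.subgroupCongr heq).trans (MonoidHom.ofInjective hσ).symm)⟩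

end Cfsg.Agent.Helper20.U11
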